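import Cfsg.Agent.Lib.ClassCount.Linear.Classes

/-!
# The bounds on the class numbers of `GL`, `SL` and `PSL`

The upper bounds come from `U`, the lower bounds from companion matrices.
-/

set_option autoImplicit false

open Polynomial Matrix

namespace CfsgLib.ClassNumber

universe u

variable (F : Type u) [Field F] [Fintype F]

theorem U_one : U F 1 ≤ Fintype.card F - 1 := by
  have h := (card_tup_small F).1
  rw [U, Nat.gcd_one_left, Nat.divisors_one, Finset.sum_singleton]
  norm_num
  omega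

theorem U_two : U F 2 ≤ (Fintype.card F - 1) * (Fintype.card F + 4) ∧ (Fintype.card F = 2 → U F 2 ≤ 3) := by
  obtain ⟨h1, h2, -⟩ := card_tup_small F
  constructor
  · have hs : ∑ e ∈ (Nat.gcd 2 (Fintype.card F - 1)).divisors, (e ^ 2 - 1) * Nat.card (Tup F (2 / e)) ≤
        ∑ e ∈ ({1, 2} : Finset ℕ), (e ^ 2 - 1) * Nat.card (Tup F (2 / e)) :=
      Finset.sum_le_sum_of_subset ((Nat.divisors_subset_of_dvd two_ne_zero (Nat.gcd_dvd_left _ _)).trans (by decide))
    rw [Finset.sum_pair (by decide)] at hs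
    norm_num at hs
    rw [U]
    obtain ⟨p, hp⟩ : ∃ p, Fintype.card F = p + 1 := ⟨Fintype.card F - 1, by have := Fintype.one_lt_card (α := F); omega⟩
    rw [hp] at h1 h2 hs ⊢
    simp only [Nat.add_sub_cancel] at hs ⊢
    nlinarith
  · intro hq
    rw [U, hq, Nat.gcd_one_right, Nat.divisors_one, Finset.sum_singleton]
    rw [hq] at h2
    norm_num at h2 ⊢
    omega

theorem sum_divisors_le_general (n : ℕ) :
    ∑ e ∈ (Nat.gcd n (Fintype.card F - 1)).divisors, (e ^ 2 - 1) * Nat.card (Tup F (n / e)) ≤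
      3 * Fintype.card F ^ (n / 2) + Fintype.card F * (Fintype.card F ^ 2 * Fintype.card F ^ (n / 3)) := by
  have hq : 2 ≤ Fintype.card F := Fintype.one_lt_card
  set q := Fintype.card F
  have hsub : (Nat.gcd n (q - 1)).divisors ⊆ Finset.range q := fun e he => by
    have := Nat.le_of_dvd (by omega) ((Nat.dvd_of_mem_divisors he).trans (Nat.gcd_dvd_right _ _))
    exact Finset.mem_range.2 (by omega)
  refine (Finset.sum_le_sum fun e he => ?_).trans ((Finset.sum_le_sum_of_subset
    (f := fun e => (if e = 2 then 3 * q ^ (n / 2) else 0) + q ^ 2 * q ^ (n / 3)) hsub).trans ?_)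
  · have h1 : Nat.card (Tup F (n / e)) ≤ q ^ (n / e) := card_tup_le F (n / e)
    by_cases he2 : e = 2
    · subst he2
      rw [if_pos rfl]
      exact (Nat.mul_le_mul_left 3 h1).trans (Nat.le_add_right _ _)
    · rw [if_neg he2, zero_add]
      have heq : e < q := Finset.mem_range.1 (hsub he)
      rcases Nat.lt_or_ge e 3 with h3 | h3
      · have h' : e ^ 2 - 1 = 0 := by interval_cases e <;> omega
        rw [h', zero_mul]
        exact Nat.zero_le _
      · refine Nat.mul_le_mul ?_ (h1.trans (Nat.pow_le_pow_right (by omega) (Nat.div_le_div_left h3 (by omega))))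
        exact (Nat.sub_le _ _).trans (Nat.pow_le_pow_left heq.le 2)
  · rw [Finset.sum_add_distrib, Finset.sum_const, Finset.card_range, smul_eq_mul, Finset.sum_ite_eq']
    split_ifs <;> omega

theorem key_arith {q X K E A B : ℕ} (hq : 4 ≤ q) (hK : K ≤ X * q ^ 3) (hE : E ≤ 3 * A + B)
    (hA : A ≤ X) (hB : B ≤ X * q ^ 2) : K + E ≤ (q - 1) * (X * q ^ 2 + 3 * (X * q)) := by
  obtain ⟨p, rfl⟩ : ∃ p, q = p + 4 := ⟨q - 4, by omega⟩
  rw [show p + 4 - 1 = p + 3 by omega]
  have h1 : 0 ≤ X * (p * p) := Nat.zero_le _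
  have h2 : 0 ≤ X * p := Nat.zero_le _
  nlinarith

theorem U_le {n : ℕ} (hn : 3 ≤ n) :
    U F n ≤ (Fintype.card F - 1) * (Fintype.card F ^ (n - 1) + 3 * Fintype.card F ^ (n - 2)) := by
  have hq : 2 ≤ Fintype.card F := Fintype.one_lt_card
  have hK := card_tup_le F n
  obtain ⟨h1, h2, h3⟩ := card_tup_small F
  have hg := sum_divisors_le_general F n
  obtain ⟨m, rfl⟩ : ∃ m, n = m + 3 := ⟨n - 3, by omega⟩
  rw [U, show m + 3 - 1 = m + 2 by omega, show m + 3 - 2 = m + 1 by omega]
  by_cases hsmall : Fintype.card F ≤ 3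
  · obtain hq2 | hq3 : Fintype.card F = 2 ∨ Fintype.card F = 3 := by omega
    · rw [hq2, Nat.gcd_one_right, Nat.divisors_one, Finset.sum_singleton]
      rw [hq2] at hK
      norm_num at hK ⊢
      rw [pow_succ, pow_succ, pow_succ] at hK
      rw [pow_succ, pow_succ]
      omega
    · have hs : ∑ e ∈ (Nat.gcd (m + 3) (Fintype.card F - 1)).divisors, (e ^ 2 - 1) * Nat.card (Tup F ((m + 3) / e)) ≤
          ∑ e ∈ ({1, 2} : Finset ℕ), (e ^ 2 - 1) * Nat.card (Tup F ((m + 3) / e)) :=
        Finset.sum_le_sum_of_subset ((Nat.divisors_subset_of_dvd (by omega) (Nat.gcd_dvd_right _ _)).trans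
          (by rw [hq3]; decide))
      rw [Finset.sum_pair (by decide)] at hs
      norm_num at hs
      have hp : Fintype.card F ^ ((m + 3) / 2) ≤ Fintype.card F ^ (m + 1) :=
        Nat.pow_le_pow_right (by omega) (by omega)
      have hh := (card_tup_le F ((m + 3) / 2)).trans hp
      rw [hq3] at hh hs hK ⊢
      rw [pow_succ, pow_succ, pow_succ] at hK
      rw [pow_succ, pow_succ]
      rw [pow_succ] at hh
      norm_num at hs ⊢
      omega
  have hs := fun T (h : (m + 3).divisors ⊆ T) =>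
    Finset.sum_le_sum_of_subset (f := fun e => (e ^ 2 - 1) * Nat.card (Tup F ((m + 3) / e)))
      ((Nat.divisors_subset_of_dvd (by omega) (Nat.gcd_dvd_left _ (Fintype.card F - 1))).trans h)
  obtain ⟨p, hp⟩ : ∃ p, Fintype.card F = p + 4 := ⟨Fintype.card F - 4, by omega⟩
  match m with
  | 0 =>
    have := hs {1, 3} (by decide)
    rw [Finset.sum_pair (by decide)] at this
    norm_num at this ⊢
    rw [hp] at h1 h3 this ⊢
    simp only [show p + 4 - 1 = p + 3 by omega] at this ⊢
    nlinarith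
  | 1 =>
    by_cases hq4 : Fintype.card F = 4
    · have h4 : Nat.gcd (1 + 3) (Fintype.card F - 1) = 1 := by rw [hq4]; rfl
      rw [h4, Nat.divisors_one, Finset.sum_singleton]
      rw [hq4] at hK ⊢
      norm_num at hK ⊢
      omega
    · have := hs {1, 2, 4} (by decide)
      rw [Finset.sum_insert (by decide), Finset.sum_pair (by decide)] at this
      norm_num at this hK ⊢
      obtain ⟨r, hr⟩ : ∃ r, Fintype.card F = r + 5 := ⟨Fintype.card F - 5, by omega⟩
      rw [hr] at h1 h2 hK this ⊢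
      simp only [show r + 5 - 1 = r + 4 by omega] at this ⊢
      nlinarith
  | 2 =>
    have := hs {1, 5} (by decide)
    rw [Finset.sum_pair (by decide), show (2 + 3) / 5 = 1 from rfl, show 5 ^ 2 - 1 = 24 from rfl] at this
    rw [show 1 ^ 2 - 1 = 0 from rfl, zero_mul, zero_add] at this
    refine le_trans (Nat.add_le_add hK this) ?_
    rw [hp] at h1 ⊢
    rw [show p + 4 - 1 = p + 3 by omega]
    show (p + 4) ^ 5 + 24 * _ ≤ (p + 3) * ((p + 4) ^ 4 + 3 * (p + 4) ^ 3)
    have hX : 16 * (p + 4) ≤ (p + 4) ^ 3 := by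
      have : 16 ≤ (p + 4) ^ 2 := Nat.pow_le_pow_left (show 4 ≤ p + 4 by omega) 2
      calc 16 * (p + 4) ≤ (p + 4) ^ 2 * (p + 4) := Nat.mul_le_mul_right _ this
        _ = _ := by ring
    nlinarith [hX, Nat.zero_le (p * (p + 4) ^ 3)]
  | k + 3 =>
    have hpos : 0 < Fintype.card F := by omega
    have ha : Fintype.card F ^ ((k + 3 + 3) / 2) ≤ Fintype.card F ^ (k + 3) :=
      Nat.pow_le_pow_right hpos (by omega)
    have hb : Fintype.card F * (Fintype.card F ^ 2 * Fintype.card F ^ ((k + 3 + 3) / 3)) ≤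
        Fintype.card F ^ (k + 3) * Fintype.card F ^ 2 := by
      rw [← pow_add, ← pow_succ', ← pow_add]
      exact Nat.pow_le_pow_right hpos (by omega)
    rw [pow_add _ (k + 3) 3] at hK
    rw [pow_add _ (k + 3) 2, pow_succ _ (k + 3)]
    exact key_arith (by omega) hK hg ha hb

theorem U_le_three_mul (m : ℕ) (hm : 1 ≤ m) :
    U F m ≤ (Fintype.card F - 1) * (3 * Fintype.card F ^ (m - 1)) := by
  have hq : 2 ≤ Fintype.card F := Fintype.one_lt_card
  rcases Nat.lt_or_ge m 3 with h | h
  · interval_cases m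
    · refine (U_one F).trans (Nat.le_mul_of_pos_right _ (by norm_num))
    · refine (U_two F).1.trans (Nat.mul_le_mul_left _ ?_)
      norm_num
      omega
  · refine (U_le F h).trans (Nat.mul_le_mul_left _ ?_)
    obtain ⟨j, rfl⟩ : ∃ j, m = j + 3 := ⟨m - 3, by omega⟩
    simp only [show j + 3 - 1 = j + 2 by omega, show j + 3 - 2 = j + 1 by omega, pow_succ _ (j + 1)]
    have := Nat.mul_le_mul_left (Fintype.card F ^ (j + 1)) hq
    omega

variable {F}

/-- The companion matrix of a monic polynomial of degree `n`. -/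
noncomputable def companion {n : ℕ} (g : F[X]) (hg : g.Monic) (hn : g.natDegree = n) : Matrix (Fin n) (Fin n) F :=
  Matrix.reindex (finCongr hn) (finCongr hn)
    (Algebra.leftMulMatrix (AdjoinRoot.powerBasisAux' hg) (AdjoinRoot.root g))

omit [Fintype F] in
theorem charpoly_companion {n : ℕ} (g : F[X]) (hg : g.Monic) (hn : g.natDegree = n) :
    (companion g hg hn).charpoly = g := by
  rw [companion, Matrix.charpoly_reindex]
  refine (charpoly_leftMulMatrix (AdjoinRoot.powerBasis' hg)).trans ?_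
  show minpoly F (AdjoinRoot.root g) = g
  rw [AdjoinRoot.minpoly_root hg.ne_zero, hg.leadingCoeff, inv_one, map_one, mul_one]

omit [Fintype F] in
theorem det_companion {n : ℕ} (g : F[X]) (hg : g.Monic) (hn : g.natDegree = n) :
    (companion g hg hn).det = (-1) ^ n * g.coeff 0 := by
  rw [Matrix.det_eq_sign_charpoly_coeff, charpoly_companion, Fintype.card_fin]

omit [Fintype F] in
theorem companion_ne_one {n : ℕ} (g : F[X]) (hg : g.Monic) (hn : g.natDegree = n) (h2 : 2 ≤ n) :
    companion g hg hn ≠ 1 := by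
  intro h
  have h1 : Algebra.leftMulMatrix (AdjoinRoot.powerBasisAux' hg) (AdjoinRoot.root g) = 1 := by
    apply (Matrix.reindex (finCongr hn) (finCongr hn)).injective
    exact h.trans (Matrix.submatrix_one_equiv _).symm
  have h3 : AdjoinRoot.root g = 1 :=
    Algebra.leftMulMatrix_injective (AdjoinRoot.powerBasisAux' hg) (h1.trans (map_one _).symm)
  haveI : Nontrivial (AdjoinRoot g) :=
    AdjoinRoot.nontrivial g (by rw [degree_eq_natDegree hg.ne_zero, hn]; exact_mod_cast (by omega : n ≠ 0))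
  have h4 := congrArg (minpoly F) h3
  rw [AdjoinRoot.minpoly_root hg.ne_zero, hg.leadingCoeff, inv_one, map_one, mul_one, minpoly.one] at h4
  rw [h4, show (1 : F[X]) = C 1 from (map_one C).symm, natDegree_X_sub_C] at hn
  omega

/-- The characteristic polynomial of a class of `GL`. -/
noncomputable def classCharpoly {n : ℕ} : ConjClasses (GL (Fin n) F) → F[X] :=
  Quotient.lift (fun g => (g : Matrix (Fin n) (Fin n) F).charpoly) fun a b hab => by
    obtain ⟨x, hx⟩ := isConj_iff.1 hab
    rw [← hx, Units.val_mul, Units.val_mul, Matrix.coe_units_inv, Matrix.charpoly_units_conj]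

variable (F)

theorem lower_gl (n : ℕ) (hn : 1 ≤ n) :
    Fintype.card F ^ n - Fintype.card F ^ (n - 1) ≤ Nat.card (ConjClasses (GL (Fin n) F)) := by
  have hd : ∀ g : Mon F n, (companion g.1 g.2.1 g.2.2.1).det ≠ 0 := fun g => by
    rw [det_companion]
    exact mul_ne_zero (pow_ne_zero _ (neg_ne_zero.2 one_ne_zero)) g.2.2.2
  have hinj : Function.Injective (fun g : Mon F n => ConjClasses.mk
      (Matrix.GeneralLinearGroup.mkOfDetNeZero _ (hd g) : GL (Fin n) F)) := fun a b h => by
    have h' := congrArg classCharpoly h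
    refine Subtype.ext ?_
    rw [← charpoly_companion a.1 a.2.1 a.2.2.1, ← charpoly_companion b.1 b.2.1 b.2.2.1]
    exact h'
  refine le_trans ?_ (Nat.card_le_card_of_injective _ hinj)
  have hc := card_mon F n
  obtain ⟨m, rfl⟩ : ∃ m, n = m + 1 := ⟨n - 1, by omega⟩
  simp only [Series.c, if_neg (Nat.succ_ne_zero m), Nat.add_sub_cancel] at hc ⊢
  have hle : Fintype.card F ^ m ≤ Fintype.card F ^ (m + 1) := Nat.pow_le_pow_right Fintype.card_pos (by omega)
  zify [hle]
  rw [hc, pow_succ]
  linarith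

/-- `X ^ (m + 1) + X * (v 0 + v 1 * X + ⋯) + δ`. -/
noncomputable def slPoly {m : ℕ} (δ : F) (v : Fin m → F) : F[X] :=
  X ^ (m + 1) + (C δ + ∑ i : Fin m, C (v i) * X ^ ((i : ℕ) + 1))

omit [Fintype F] in
theorem slPoly_spec {m : ℕ} (δ : F) (v : Fin m → F) :
    (slPoly F δ v).Monic ∧ (slPoly F δ v).natDegree = m + 1 ∧ (slPoly F δ v).coeff 0 = δ ∧
      ∀ i : Fin m, (slPoly F δ v).coeff ((i : ℕ) + 1) = v i := by
  classical
  have hdeg : (C δ + ∑ i : Fin m, C (v i) * X ^ ((i : ℕ) + 1)).degree < ((m + 1 : ℕ) : WithBot ℕ) := by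
    refine lt_of_le_of_lt (degree_add_le _ _) (max_lt (lt_of_le_of_lt degree_C_le (by exact_mod_cast Nat.succ_pos m)) ?_)
    refine lt_of_le_of_lt (degree_sum_le _ _) ((Finset.sup_lt_iff (WithBot.bot_lt_coe _)).2 fun i _ => ?_)
    exact lt_of_le_of_lt (degree_C_mul_X_pow_le _ _) (by exact_mod_cast (by omega : (i : ℕ) + 1 < m + 1))
  refine ⟨monic_X_pow_add hdeg, ?_, ?_, fun i => ?_⟩
  · refine natDegree_eq_of_degree_eq_some ?_
    rw [slPoly, degree_add_eq_left_of_degree_lt, degree_X_pow]
    rw [degree_X_pow]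
    exact hdeg
  · simp [slPoly, coeff_X_pow, finsetSum_coeff]
  · rw [slPoly, coeff_add, coeff_add, coeff_X_pow, if_neg (by omega), coeff_C, if_neg (by omega), zero_add, zero_add,
      finsetSum_coeff, Finset.sum_eq_single i]
    · simp
    · intro j _ hj
      rw [coeff_C_mul, coeff_X_pow, if_neg (fun h => hj (Fin.ext (by omega))), mul_zero]
    · simp

theorem lower_sl (n : ℕ) (hn : 2 ≤ n) :
    Fintype.card F ^ (n - 1) < Nat.card (ConjClasses (Matrix.SpecialLinearGroup (Fin n) F)) := by
  obtain ⟨m, rfl⟩ : ∃ m, n = m + 1 := ⟨n - 1, by omega⟩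
  let δ : F := (-1) ^ (m + 1)
  let M : (Fin m → F) → Matrix.SpecialLinearGroup (Fin (m + 1)) F := fun v =>
    ⟨companion _ (slPoly_spec F δ v).1 (slPoly_spec F δ v).2.1, by
      rw [det_companion, (slPoly_spec F δ v).2.2.1, ← pow_add, ← two_mul, pow_mul, neg_one_sq, one_pow]⟩
  let f : Option (Fin m → F) → ConjClasses (Matrix.SpecialLinearGroup (Fin (m + 1)) F) := fun o =>
    o.elim (ConjClasses.mk 1) fun v => ConjClasses.mk (M v)
  have hne : ∀ v, ConjClasses.mk (M v) ≠ ConjClasses.mk 1 := fun v h => by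
    obtain ⟨c, hc⟩ := isConj_iff.1 (ConjClasses.mk_eq_mk_iff_isConj.1 h).symm
    rw [mul_one, mul_inv_cancel] at hc
    exact companion_ne_one _ (slPoly_spec F δ v).1 (slPoly_spec F δ v).2.1 hn (congrArg Subtype.val hc).symm
  have hinj : Function.Injective f := by
    rintro (_ | v) (_ | w) h
    · rfl
    · exact absurd h.symm (hne w)
    · exact absurd h (hne v)
    · congr 1
      have h' := congrArg (fun C => classCharpoly (ConjClasses.map Matrix.SpecialLinearGroup.toGL C)) h
      have h'' : slPoly F δ v = slPoly F δ w := by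
        rw [← charpoly_companion _ (slPoly_spec F δ v).1 (slPoly_spec F δ v).2.1,
          ← charpoly_companion _ (slPoly_spec F δ w).1 (slPoly_spec F δ w).2.1]
        exact h'
      funext i
      rw [← (slPoly_spec F δ v).2.2.2 i, h'', (slPoly_spec F δ w).2.2.2 i]
  have h := Nat.card_le_card_of_injective f hinj
  rw [Finite.card_option, Nat.card_fun, Nat.card_fin, Nat.card_eq_fintype_card] at h
  simp only [Nat.add_sub_cancel]
  omega

theorem upper_gl (n : ℕ) : Nat.card (ConjClasses (GL (Fin n) F)) ≤ Fintype.card F ^ n :=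
  card_gl_classes_le.trans (card_tup_le F n)

theorem upper_sl (n : ℕ) (hn : 3 ≤ n) :
    Nat.card (ConjClasses (Matrix.SpecialLinearGroup (Fin n) F)) ≤
      Fintype.card F ^ (n - 1) + 3 * Fintype.card F ^ (n - 2) :=
  Nat.le_of_mul_le_mul_left (card_sl_classes_le.trans (U_le F hn))
    (by have := Fintype.one_lt_card (α := F); omega)

theorem upper_sl_half (n : ℕ) (hn : 2 ≤ n) :
    2 * Nat.card (ConjClasses (Matrix.SpecialLinearGroup (Fin n) F)) ≤ 5 * Fintype.card F ^ (n - 1) := by
  have hq : 2 ≤ Fintype.card F := Fintype.one_lt_card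
  have hk := card_sl_classes_le (F := F) (n := n)
  rcases Nat.lt_or_ge n 3 with h | h
  · obtain rfl : n = 2 := by omega
    norm_num
    rcases Nat.lt_or_ge (Fintype.card F) 3 with h2 | h2
    · have h2' : Fintype.card F = 2 := by omega
      have := hk.trans ((U_two F).2 h2')
      rw [h2'] at this ⊢
      omega
    · have := Nat.le_of_mul_le_mul_left (hk.trans (U_two F).1) (by omega)
      omega
  · have := upper_sl F n h
    obtain ⟨j, rfl⟩ : ∃ j, n = j + 3 := ⟨n - 3, by omega⟩
    simp only [show j + 3 - 1 = j + 2 by omega, show j + 3 - 2 = j + 1 by omega, pow_succ _ (j + 1)] at this ⊢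
    have := Nat.mul_le_mul_left (Fintype.card F ^ (j + 1)) hq
    omega

theorem small_term {n d : ℕ} (hn : 3 ≤ n) (hdn : d ≤ n) (hdq : d ≤ Fintype.card F - 1) :
    (d - 1) * (3 * Fintype.card F ^ (n / 2 - 1)) ≤ 2 * Fintype.card F ^ (n - 2) := by
  have hq : 2 ≤ Fintype.card F := Fintype.one_lt_card
  rcases Nat.lt_or_ge n 5 with h | h
  · interval_cases n <;> norm_num
    · omega
    · rcases Nat.lt_or_ge (Fintype.card F) 5 with h5 | h5
      · interval_cases (Fintype.card F) <;> omega
      · have h3 : (d - 1) * (3 * Fintype.card F) ≤ 3 * (3 * Fintype.card F) := Nat.mul_le_mul_right _ (by omega)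
        nlinarith
  · calc (d - 1) * (3 * Fintype.card F ^ (n / 2 - 1))
        ≤ Fintype.card F * (3 * Fintype.card F ^ (n / 2 - 1)) := Nat.mul_le_mul_right _ (by omega)
      _ = 3 * Fintype.card F ^ (n / 2) := by
          rw [mul_left_comm, ← pow_succ', show n / 2 - 1 + 1 = n / 2 by omega]
      _ ≤ 3 * Fintype.card F ^ (n - 3) := Nat.mul_le_mul_left _ (Nat.pow_le_pow_right (by omega) (by omega))
      _ ≤ _ := by
          rw [show n - 2 = n - 3 + 1 by omega, pow_succ]
          have := Nat.mul_le_mul_left (Fintype.card F ^ (n - 3)) hq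
          omega

theorem psl_bounds (n : ℕ) (hn : 2 ≤ n) :
    Fintype.card F ^ (n - 1) ≤
        Nat.gcd n (Fintype.card F - 1) * Nat.card (ConjClasses (Matrix.ProjectiveSpecialLinearGroup (Fin n) F)) ∧
      Nat.gcd n (Fintype.card F - 1) * Nat.card (ConjClasses (Matrix.ProjectiveSpecialLinearGroup (Fin n) F)) ≤
        Fintype.card F ^ (n - 1) + 5 * Fintype.card F ^ (n - 2) := by
  classical
  have hq : 2 ≤ Fintype.card F := Fintype.one_lt_card
  have hd := card_center_eq (F := F) (n := n) (by omega)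
  refine ⟨(lower_sl F n hn).le.trans (hd ▸ card_center_le), ?_⟩
  have h := card_psl_classes_le (F := F) (n := n) (by omega)
  rw [hd] at h
  haveI : Fintype (Subgroup.center (Matrix.SpecialLinearGroup (Fin n) F)) := Fintype.ofFinite _
  rw [finsum_eq_sum_of_fintype, ← Finset.add_sum_erase _ _ (Finset.mem_univ 1), orderOf_one, Nat.div_one] at h
  set d := Nat.gcd n (Fintype.card F - 1) with hdd
  have hdn : d ≤ n := Nat.le_of_dvd (by omega) (Nat.gcd_dvd_left _ _)
  have hdq : d ≤ Fintype.card F - 1 := Nat.le_of_dvd (by omega) (Nat.gcd_dvd_right _ _)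
  have hsum : ∀ B : ℕ, (∀ m, 1 ≤ m → m ≤ n / 2 → U F m ≤ (Fintype.card F - 1) * B) →
      ∑ z ∈ Finset.univ.erase (1 : Subgroup.center (Matrix.SpecialLinearGroup (Fin n) F)), U F (n / orderOf z) ≤
        (d - 1) * ((Fintype.card F - 1) * B) := fun B hB => by
    refine (Finset.sum_le_card_nsmul _ _ ((Fintype.card F - 1) * B) fun z hz => ?_).trans (le_of_eq ?_)
    · have h1 : orderOf z ≠ 1 := fun h => (Finset.mem_erase.1 hz).1 (orderOf_eq_one_iff.1 h)
      have h0 := orderOf_pos z
      have hdvd : orderOf z ∣ n := (hd ▸ orderOf_dvd_natCard z).trans (Nat.gcd_dvd_left _ _)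
      refine hB _ (Nat.div_pos (Nat.le_of_dvd (by omega) hdvd) h0) ?_
      exact Nat.div_le_div_left (by omega) (by omega)
    · rw [Finset.card_erase_of_mem (Finset.mem_univ _), Finset.card_univ, ← Nat.card_eq_fintype_card, hd, smul_eq_mul]
  refine Nat.le_of_mul_le_mul_left ?_ (show 0 < Fintype.card F - 1 by omega)
  rcases Nat.lt_or_ge n 3 with hn3 | hn3
  · obtain rfl : n = 2 := by omega
    have hU := hsum 1 fun m h1 h2 => by
      obtain rfl : m = 1 := by omega
      rw [mul_one]
      exact U_one F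
    refine h.trans ((Nat.add_le_add (U_two F).1 hU).trans ?_)
    have : (d - 1) * ((Fintype.card F - 1) * 1) ≤ 1 * ((Fintype.card F - 1) * 1) :=
      Nat.mul_le_mul_right _ (by omega)
    norm_num
    nlinarith
  · have hU := hsum (3 * Fintype.card F ^ (n / 2 - 1)) fun m h1 h2 =>
      (U_le_three_mul F m h1).trans (Nat.mul_le_mul_left _ (Nat.mul_le_mul_left _
        (Nat.pow_le_pow_right (by omega) (by omega))))
    refine h.trans ((Nat.add_le_add (U_le F hn3) hU).trans ?_)
    rw [Nat.mul_left_comm (d - 1), ← Nat.mul_add]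
    refine Nat.mul_le_mul_left _ ?_
    have := small_term F hn3 hdn hdq
    omega

end CfsgLib.ClassNumber
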