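import Cfsg.Agent.Lib.ClassCount.Linear.Invariance
import Cfsg.Agent.Lib.Classical.ClassTheory.NormalClasses

/-!
# Class numbers of `GL`, `SL` and `PSL` in terms of tuples
-/

set_option autoImplicit false

open Polynomial Matrix
open scoped Classical

namespace CfsgLib.ClassNumber

universe u

variable {F : Type u} [Field F]

theorem scaleRoots_prod_monic {α : Type*} (s : Finset α) (f : α → F[X]) (r : F) (h : ∀ a ∈ s, (f a).Monic) :
    (∏ a ∈ s, f a).scaleRoots r = ∏ a ∈ s, (f a).scaleRoots r := by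
  induction s using Finset.induction_on with
  | empty => simp
  | insert a s ha ih =>
    rw [Finset.prod_insert ha, Finset.prod_insert ha, mul_scaleRoots_of_noZeroDivisors,
      ih fun b hb => h b (Finset.mem_insert_of_mem hb)]

theorem irreducible_scaleRoots {p : F[X]} (hp : Irreducible p) (ζ : Fˣ) :
    Irreducible (p.scaleRoots (ζ : F)) := by
  have hinv : ∀ a : F[X], (a.scaleRoots (ζ : F)).scaleRoots (ζ⁻¹ : Fˣ) = a := fun a => by
    rw [← scaleRoots_mul, Units.mul_inv, scaleRoots_one]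
  refine ⟨fun hu => ?_, fun a b hab => ?_⟩
  · have := natDegree_eq_zero_of_isUnit hu
    rw [natDegree_scaleRoots] at this
    exact hp.natDegree_pos.ne' this
  · have ha : a ≠ 0 := fun h0 => by
      rw [h0, zero_mul] at hab
      exact hp.ne_zero (by rw [← hinv p, hab]; exact zero_scaleRoots _)
    have hb : b ≠ 0 := fun h0 => by
      rw [h0, mul_zero] at hab
      exact hp.ne_zero (by rw [← hinv p, hab]; exact zero_scaleRoots _)
    have h := hinv p
    rw [hab, mul_scaleRoots_of_noZeroDivisors] at h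
    rcases hp.isUnit_or_isUnit h.symm with h1 | h1
    · refine Or.inl (isUnit_iff_degree_eq_zero.2 ?_)
      have h2 := natDegree_eq_zero_of_isUnit h1
      rw [natDegree_scaleRoots] at h2
      rw [degree_eq_natDegree ha, h2, Nat.cast_zero]
    · refine Or.inr (isUnit_iff_degree_eq_zero.2 ?_)
      have h2 := natDegree_eq_zero_of_isUnit h1
      rw [natDegree_scaleRoots] at h2
      rw [degree_eq_natDegree hb, h2, Nat.cast_zero]

theorem exists_scale_equiv {r r' : F[X]} (ζ : Fˣ) (h : r.scaleRoots (ζ : F) = r') :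
    ∃ θ : AdjoinRoot r ≃ₐ[F] AdjoinRoot r', (ζ : F) • θ (AdjoinRoot.root r) = AdjoinRoot.root r' := by
  have h1 : aeval (((ζ⁻¹ : Fˣ) : F) • AdjoinRoot.root r') r = 0 := by
    have := scaleRoots_aeval_eq_zero (r := ((ζ⁻¹ : Fˣ) : F))
      (show aeval (AdjoinRoot.root r') r' = 0 by rw [AdjoinRoot.aeval_eq, AdjoinRoot.mk_self])
    rw [← h, ← scaleRoots_mul, Units.mul_inv, scaleRoots_one] at this
    subst h
    rwa [Algebra.smul_def]
  have h2 : aeval ((ζ : F) • AdjoinRoot.root r) r' = 0 := by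
    rw [← h, Algebra.smul_def]
    exact scaleRoots_aeval_eq_zero (by rw [AdjoinRoot.aeval_eq, AdjoinRoot.mk_self])
  let f : AdjoinRoot r →ₐ[F] AdjoinRoot r' := AdjoinRoot.liftAlgHom r (Algebra.ofId F _) _ h1
  let g : AdjoinRoot r' →ₐ[F] AdjoinRoot r := AdjoinRoot.liftAlgHom r' (Algebra.ofId F _) _ h2
  have hf : f (AdjoinRoot.root r) = ((ζ⁻¹ : Fˣ) : F) • AdjoinRoot.root r' := AdjoinRoot.liftAlgHom_root _ _ _ _
  have hg : g (AdjoinRoot.root r') = (ζ : F) • AdjoinRoot.root r := AdjoinRoot.liftAlgHom_root _ _ _ _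
  refine ⟨AlgEquiv.ofAlgHom f g (AdjoinRoot.algHom_ext ?_) (AdjoinRoot.algHom_ext ?_), ?_⟩
  · show f (g (AdjoinRoot.root r')) = AdjoinRoot.root r'
    rw [hg, map_smul, hf, smul_smul, Units.mul_inv, one_smul]
  · show g (f (AdjoinRoot.root r)) = AdjoinRoot.root r
    rw [hf, map_smul, hg, smul_smul, Units.inv_mul, one_smul]
  · show (ζ : F) • f (AdjoinRoot.root r) = AdjoinRoot.root r'
    rw [hf, smul_smul, Units.mul_inv, one_smul]

variable {V : Type u} [AddCommGroup V] [Module F V]

theorem Decomp.exists_scale {T : Module.End F V} (D : Decomp T) (ζ : Fˣ) :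
    ∃ D' : Decomp ((ζ : F) • T), ∀ k, D'.part k = (D.part k).scaleRoots (ζ : F) := by
  choose θ hθ using fun i => exists_scale_equiv ζ (pow_scaleRoots_of_isReduced (D.p i) (ζ : F) (D.e i))
  refine ⟨
    { ι := D.ι
      p := fun i => (D.p i).scaleRoots (ζ : F)
      e := D.e
      monic := fun i => (monic_scaleRoots_iff _).2 (D.monic i)
      irr := fun i => irreducible_scaleRoots (D.irr i) ζ
      Φ := D.Φ.trans (LinearEquiv.piCongrRight fun i => (θ i).toLinearEquiv)
      comm := fun v i => ?_ }, fun k => (scaleRoots_prod_monic _ _ _ fun i _ => D.monic i).symm⟩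
  show θ i (D.Φ ((ζ : F) • T v) i) = _ * θ i (D.Φ v i)
  rw [map_smul, Pi.smul_apply, map_smul, D.comm, map_mul, ← smul_mul_assoc, hθ]

variable {n : ℕ}

/-- The endomorphism of `Fⁿ` of a matrix. -/
noncomputable abbrev endo (M : Matrix (Fin n) (Fin n) F) : Module.End F (Fin n → F) := Matrix.toLinAlgEquiv' M

theorem endo_surjective (g : GL (Fin n) F) : Function.Surjective (endo (g : Matrix (Fin n) (Fin n) F)) :=
  fun v => ⟨endo ((g⁻¹ : GL (Fin n) F) : Matrix (Fin n) (Fin n) F) v, by
    rw [← Module.End.mul_apply, ← map_mul, Units.mul_inv, map_one, Module.End.one_apply]⟩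

theorem finrank_fin_fun : Module.finrank F (Fin n → F) = n := by simp

/-- A chosen decomposition. -/
noncomputable def chosen (g : GL (Fin n) F) : Decomp (endo (g : Matrix (Fin n) (Fin n) F)) :=
  (exists_decomp _).some

/-- The tuple of an invertible matrix. -/
noncomputable def tupGL (g : GL (Fin n) F) : Tup F n := (chosen g).tup (endo_surjective g) finrank_fin_fun

theorem tupGL_eq [Fintype F] (g : GL (Fin n) F) (D : Decomp (endo (g : Matrix (Fin n) (Fin n) F))) :
    tupGL g = D.tup (endo_surjective g) finrank_fin_fun :=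
  Decomp.tup_eq _ _ _ _

theorem tupGL_conj [Fintype F] (g x : GL (Fin n) F) : tupGL (x * g * x⁻¹) = tupGL g := by
  let L : (Fin n → F) ≃ₗ[F] (Fin n → F) :=
    LinearEquiv.ofLinear (endo (x : Matrix (Fin n) (Fin n) F)) (endo ((x⁻¹ : GL (Fin n) F) : Matrix (Fin n) (Fin n) F))
      (by rw [← Module.End.mul_eq_comp, ← map_mul, Units.mul_inv, map_one]; rfl)
      (by rw [← Module.End.mul_eq_comp, ← map_mul, Units.inv_mul, map_one]; rfl)
  have h : ∀ v, L (endo (g : Matrix (Fin n) (Fin n) F) v) =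
      endo ((x * g * x⁻¹ : GL (Fin n) F) : Matrix (Fin n) (Fin n) F) (L v) := fun v => by
    show endo (x : Matrix (Fin n) (Fin n) F) _ = endo _ (endo (x : Matrix (Fin n) (Fin n) F) v)
    rw [← Module.End.mul_apply, ← Module.End.mul_apply, ← map_mul, ← map_mul, ← Units.val_mul, ← Units.val_mul,
      inv_mul_cancel_right]
  rw [tupGL_eq _ ((chosen g).transport L h)]
  rfl

theorem isConj_of_tupGL_eq [Fintype F] {g h : GL (Fin n) F} (e : tupGL g = tupGL h) : IsConj g h := by
  obtain ⟨L, hL⟩ := (chosen g).exists_equiv_of_tup_eq (chosen h) _ _ _ e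
  let M := Matrix.toLinAlgEquiv'.symm (L : Module.End F (Fin n → F))
  let M' := Matrix.toLinAlgEquiv'.symm (L.symm : Module.End F (Fin n → F))
  have h1 : M * M' = 1 := by
    rw [← map_mul, ← map_one Matrix.toLinAlgEquiv'.symm]
    exact congrArg _ (LinearMap.ext fun v => L.apply_symm_apply v)
  let x : GL (Fin n) F := ⟨M, M', h1, mul_eq_one_comm.1 h1⟩
  refine isConj_iff.2 ⟨x, mul_inv_eq_iff_eq_mul.2 (Units.ext ?_)⟩
  show M * (g : Matrix (Fin n) (Fin n) F) = (h : Matrix (Fin n) (Fin n) F) * M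
  apply Matrix.toLinAlgEquiv'.injective
  rw [map_mul, map_mul, AlgEquiv.apply_symm_apply]
  exact LinearMap.ext fun v => hL v

theorem card_gl_classes_le [Fintype F] :
    Nat.card (ConjClasses (GL (Fin n) F)) ≤ Nat.card (Tup F n) := by
  refine Nat.card_le_card_of_injective
    (Quotient.lift tupGL fun a b hab => ?_) fun C C' h => ?_
  · obtain ⟨x, hx⟩ := isConj_iff.1 hab
    rw [← hx, tupGL_conj]
  · obtain ⟨g, rfl⟩ := ConjClasses.mk_surjective C
    obtain ⟨g', rfl⟩ := ConjClasses.mk_surjective C'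
    exact ConjClasses.mk_eq_mk_iff_isConj.2 (isConj_of_tupGL_eq h)

theorem cpro_tup [Fintype F] {T : Module.End F (Fin n → F)} (D : Decomp T) (hT : Function.Surjective T) :
    (D.tup hT finrank_fin_fun).cpro = ∏ i, (D.p i).coeff 0 ^ D.e i := by
  symm
  rw [← Finset.prod_fiberwise_of_maps_to (g := D.e) (t := Finset.range (n + 1))
    (fun i _ => Finset.mem_range.2 (Nat.lt_succ_of_le (D.e_le finrank_fin_fun i))) (fun i => (D.p i).coeff 0 ^ D.e i),
    Finset.prod_range_succ', ← Fin.prod_univ_eq_prod_range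
      (fun k => ∏ i ∈ Finset.univ.filter (fun i => D.e i = k + 1), (D.p i).coeff 0 ^ D.e i),
    Finset.prod_eq_one (s := Finset.univ.filter fun i => D.e i = 0) (fun i hi => by
      rw [(Finset.mem_filter.1 hi).2, pow_zero]), mul_one]
  refine Finset.prod_congr rfl fun k _ => ?_
  show _ = (∏ i ∈ Finset.univ.filter (fun i => D.e i = 1 + (k : ℕ)), D.p i).coeff 0 ^ (1 + (k : ℕ))
  rw [Polynomial.coeff_zero_prod, ← Finset.prod_pow, add_comm 1 (k : ℕ)]
  exact Finset.prod_congr rfl fun i hi => by rw [(Finset.mem_filter.1 hi).2]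

theorem cpro_tupGL [Fintype F] (u : SpecialLinearGroup (Fin n) F) :
    (tupGL (SpecialLinearGroup.toGL u)).cpro = (-1) ^ n := by
  have h := (chosen (SpecialLinearGroup.toGL u)).det_eq
  rw [show LinearMap.det (endo ((SpecialLinearGroup.toGL u : GL (Fin n) F) : Matrix (Fin n) (Fin n) F)) = 1 from
    (LinearMap.det_toLin' _).trans u.2, ← cpro_tup (chosen (SpecialLinearGroup.toGL u)) (endo_surjective _),
    finrank_fin_fun] at h
  show (Tup.cpro (Decomp.tup _ _ _)) = _
  refine mul_left_cancel₀ (pow_ne_zero n (neg_ne_zero.2 (one_ne_zero (α := F)))) (h.symm.trans ?_)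
  rw [← pow_add, ← two_mul, pow_mul, neg_one_sq, one_pow]

theorem le_mul_card_of_pow_mem {G : Type*} [CommGroup G] [IsCyclic G] [Finite G] (H : Subgroup G) {d : ℕ}
    (hd : d ∣ Nat.card G) (h : ∀ x : G, x ^ d ∈ H) : Nat.card G ≤ d * Nat.card H := by
  have h1 : Nat.card (powMonoidHom d : G →* G).range ≤ Nat.card H :=
    Subgroup.card_le_of_le (by rintro _ ⟨x, rfl⟩; exact h x)
  rw [IsCyclic.card_powMonoidHom_range, Nat.gcd_eq_right hd] at h1
  calc Nat.card G = d * (Nat.card G / d) := (Nat.mul_div_cancel' hd).symm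
    _ ≤ _ := Nat.mul_le_mul_left _ h1

theorem le_gg_mul_card_det [Fintype F] (g : GL (Fin n) F) :
    Fintype.card F - 1 ≤ gg (Fintype.card F) (tupGL g).deg *
      Nat.card ((Subgroup.centralizer ({g} : Set (GL (Fin n) F))).map Matrix.GeneralLinearGroup.det) := by
  set D := (Subgroup.centralizer ({g} : Set (GL (Fin n) F))).map Matrix.GeneralLinearGroup.det
  have hG : Nat.card Fˣ = Fintype.card F - 1 := by rw [Nat.card_units, Nat.card_eq_fintype_card]
  rw [← hG]
  refine le_mul_card_of_pow_mem D (hG ▸ Nat.gcd_dvd_left _ _) ?_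
  have hclose : ∀ a b : ℕ, (∀ x : Fˣ, x ^ a ∈ D) → (∀ x : Fˣ, x ^ b ∈ D) → ∀ x : Fˣ, x ^ Nat.gcd a b ∈ D :=
    fun a b ha hb x => by
      rw [← _root_.zpow_natCast, Nat.gcd_eq_gcd_ab, _root_.zpow_add, _root_.zpow_mul, _root_.zpow_mul, _root_.zpow_natCast, _root_.zpow_natCast]
      exact mul_mem (zpow_mem (ha x) _) (zpow_mem (hb x) _)
  refine hclose _ _ (fun x => ?_) (Finset.univ.induction_on ?_ ?_)
  · rw [← hG, pow_card_eq_one']
    exact one_mem _
  · intro x
    simp
  · intro k s _ ih x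
    rw [Finset.gcd_insert]
    refine hclose _ _ (fun c => ?_) ih x
    by_cases hk : (tupGL g).deg k = 0
    · simp [hk]
    rw [if_neg hk]
    obtain ⟨i, hi⟩ : ∃ i, (chosen g).e i = 1 + (k : ℕ) := by
      by_contra hcon
      refine hk ?_
      show ((chosen g).part (1 + (k : ℕ))).natDegree = 0
      rw [(chosen g).natDegree_part, Finset.filter_eq_empty_iff.2 fun i _ hi => hcon ⟨i, hi⟩, Finset.sum_empty]
    obtain ⟨S, hS, hdet⟩ := (chosen g).exists_commute_det i c
    rw [hi] at hdet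
    have hdM : (Matrix.toLinAlgEquiv'.symm S).det = (c : F) ^ (1 + (k : ℕ)) := by
      rw [← hdet, ← LinearMap.det_toLin']
      exact congrArg _ (Matrix.toLinAlgEquiv'.apply_symm_apply S)
    let s : GL (Fin n) F := Matrix.GeneralLinearGroup.mkOfDetNeZero (Matrix.toLinAlgEquiv'.symm S)
      (by rw [hdM]; exact pow_ne_zero _ c.ne_zero)
    refine ⟨s, Subgroup.mem_centralizer_singleton_iff.2 (Units.ext (Matrix.toLinAlgEquiv'.injective ?_)),
      Units.ext ((show _ = (Matrix.toLinAlgEquiv'.symm S).det from rfl).trans (hdM.trans (Units.val_pow_eq_pow_val _ _).symm))⟩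
    rw [Units.val_mul, Units.val_mul, map_mul, map_mul]
    show Matrix.toLinAlgEquiv' (Matrix.toLinAlgEquiv'.symm S) * _ = _ * Matrix.toLinAlgEquiv' (Matrix.toLinAlgEquiv'.symm S)
    rw [AlgEquiv.apply_symm_apply]
    exact hS

theorem card_sl_fibre_le [Fintype F] (t : Tup F n) :
    Nat.card {C : ConjClasses (SpecialLinearGroup (Fin n) F) //
      ∃ u, ConjClasses.mk u = C ∧ tupGL (SpecialLinearGroup.toGL u) = t} ≤ gg (Fintype.card F) t.deg := by
  by_cases ht : ∃ u : SpecialLinearGroup (Fin n) F, tupGL (SpecialLinearGroup.toGL u) = t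
  · obtain ⟨u, rfl⟩ := ht
    have hdet : Matrix.GeneralLinearGroup.det (SpecialLinearGroup.toGL u) = 1 := Units.ext u.2
    have hrange : ∀ g : GL (Fin n) F, g ∈ Set.range SpecialLinearGroup.toGL ↔ Matrix.GeneralLinearGroup.det g = 1 :=
      fun g => ⟨by rintro ⟨v, rfl⟩; exact Units.ext v.2,
        fun hg => ⟨⟨g, congrArg Units.val hg⟩, Units.ext rfl⟩⟩
    have hcl := CfsgLib.Classical.ClassTheory.card_classes_kernel Matrix.GeneralLinearGroup.det
      SpecialLinearGroup.toGL SpecialLinearGroup.toGL_injective hrange (SpecialLinearGroup.toGL u) hdet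
    have hle := le_gg_mul_card_det (SpecialLinearGroup.toGL u)
    have hrg : Nat.card (Matrix.GeneralLinearGroup.det : GL (Fin n) F →* Fˣ).range ≤ Fintype.card F - 1 :=
      (Subgroup.card_le_card_group _).trans (by rw [Nat.card_units, Nat.card_eq_fintype_card])
    refine le_trans (Nat.card_le_card_of_injective (fun C => (⟨C.1, ?_⟩ : {C : ConjClasses (SpecialLinearGroup (Fin n) F) //
      ∃ v, ConjClasses.mk v = C ∧ IsConj (SpecialLinearGroup.toGL u) (SpecialLinearGroup.toGL v)}))
      (fun a b h => Subtype.ext (Subtype.ext_iff.1 h :))) (Nat.le_of_mul_le_mul_right ((hcl.le.trans hrg).trans hle) Nat.card_pos)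
    obtain ⟨v, hv, htv⟩ := C.2
    exact ⟨v, hv, isConj_of_tupGL_eq htv.symm⟩
  · haveI : IsEmpty {C : ConjClasses (SpecialLinearGroup (Fin n) F) //
        ∃ u, ConjClasses.mk u = C ∧ tupGL (SpecialLinearGroup.toGL u) = t} := ⟨fun C => by
      obtain ⟨u, -, hu⟩ := C.2
      exact ht ⟨u, hu⟩⟩
    simp

/-- The tuple of a class of `SL`. -/
noncomputable def classTup [Fintype F] : ConjClasses (SpecialLinearGroup (Fin n) F) → Tup F n :=
  Quotient.lift (fun u => tupGL (SpecialLinearGroup.toGL u)) fun a b hab => by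
    obtain ⟨x, hx⟩ := isConj_iff.1 hab
    rw [← hx, map_mul, map_mul, map_inv, tupGL_conj]

theorem card_sl_subset_le [Fintype F] (p : Tup F n → Prop) (S : ConjClasses (SpecialLinearGroup (Fin n) F) → Prop)
    (hS : ∀ C, S C → p (classTup C)) :
    Nat.card {C // S C} ≤ Nat.card (Σ t : {t : Tup F n // t.cpro = (-1) ^ n ∧ p t}, Fin (gg (Fintype.card F) t.1.deg)) := by
  haveI : Fintype {t : Tup F n // t.cpro = (-1) ^ n ∧ p t} := Fintype.ofFinite _
  let f : {C // S C} → {t : Tup F n // t.cpro = (-1) ^ n ∧ p t} := fun C => ⟨classTup C.1, by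
    obtain ⟨u, hu⟩ := ConjClasses.mk_surjective C.1
    refine ⟨?_, hS _ C.2⟩
    rw [← hu]
    exact cpro_tupGL u⟩
  rw [← Nat.card_congr (Equiv.sigmaFiberEquiv f), Nat.card_sigma, Nat.card_sigma]
  refine Finset.sum_le_sum fun t _ => ?_
  rw [Nat.card_fin]
  refine le_trans (Nat.card_le_card_of_injective (fun C => (⟨C.1.1, ?_⟩ : {C : ConjClasses (SpecialLinearGroup (Fin n) F) //
      ∃ u, ConjClasses.mk u = C ∧ tupGL (SpecialLinearGroup.toGL u) = t.1}))
    (fun a b h => Subtype.ext (Subtype.ext (Subtype.ext_iff.1 h :)))) (card_sl_fibre_le t.1)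
  obtain ⟨u, hu⟩ := ConjClasses.mk_surjective C.1.1
  refine ⟨u, hu, ?_⟩
  have := congrArg Subtype.val C.2
  simp only [f, ← hu] at this
  exact this

theorem card_sl_classes_le [Fintype F] :
    (Fintype.card F - 1) * Nat.card (ConjClasses (SpecialLinearGroup (Fin n) F)) ≤ U F n := by
  refine le_trans (Nat.mul_le_mul_left _ ?_) (W_le n ((-1 : F) ^ n))
  refine (Nat.card_congr (Equiv.subtypeUnivEquiv fun _ => trivial)).symm.le.trans
    ((card_sl_subset_le (fun _ => True) (fun _ => True) fun _ _ => trivial).trans (le_of_eq ?_))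
  exact Nat.card_congr (Equiv.sigmaCongr (Equiv.subtypeEquivRight fun t => and_iff_left trivial) fun _ => Equiv.refl _)

theorem card_psl_classes_le [Fintype F] (hn : 0 < n) :
    (Fintype.card F - 1) * (Nat.card (Subgroup.center (SpecialLinearGroup (Fin n) F)) *
        Nat.card (ConjClasses (ProjectiveSpecialLinearGroup (Fin n) F))) ≤
      ∑ᶠ z : Subgroup.center (SpecialLinearGroup (Fin n) F), U F (n / orderOf z) := by
  haveI : NeZero n := ⟨hn.ne'⟩
  haveI : Fintype (Subgroup.center (SpecialLinearGroup (Fin n) F)) := Fintype.ofFinite _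
  haveI : Fintype (ConjClasses (SpecialLinearGroup (Fin n) F)) := Fintype.ofFinite _
  rw [finsum_eq_sum_of_fintype]
  let act : Subgroup.center (SpecialLinearGroup (Fin n) F) → ConjClasses (SpecialLinearGroup (Fin n) F) →
      ConjClasses (SpecialLinearGroup (Fin n) F) := fun z =>
    Quotient.lift (fun u => ConjClasses.mk (z.1 * u)) fun a b hab => by
      obtain ⟨x, hx⟩ := isConj_iff.1 hab
      refine ConjClasses.mk_eq_mk_iff_isConj.2 (isConj_iff.2 ⟨x, ?_⟩)
      rw [← hx, ← mul_assoc x z.1, Subgroup.mem_center_iff.1 z.2 x]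
      group
  letI : MulAction (Subgroup.center (SpecialLinearGroup (Fin n) F)) (ConjClasses (SpecialLinearGroup (Fin n) F)) :=
    { smul := act
      one_smul := fun C => by
        obtain ⟨u, rfl⟩ := ConjClasses.mk_surjective C
        exact congrArg ConjClasses.mk (one_mul u)
      mul_smul := fun a b C => by
        obtain ⟨u, rfl⟩ := ConjClasses.mk_surjective C
        exact congrArg ConjClasses.mk (mul_assoc a.1 b.1 u) }
  have horb : Nat.card (ConjClasses (ProjectiveSpecialLinearGroup (Fin n) F)) ≤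
      Nat.card (MulAction.orbitRel.Quotient (Subgroup.center (SpecialLinearGroup (Fin n) F))
        (ConjClasses (SpecialLinearGroup (Fin n) F))) := by
    refine Nat.card_le_card_of_surjective (Quotient.lift (ConjClasses.map (QuotientGroup.mk' _)) ?_) fun C => ?_
    · intro A B hAB
      obtain ⟨z, rfl⟩ := hAB
      obtain ⟨u, rfl⟩ := ConjClasses.mk_surjective B
      show ConjClasses.mk (QuotientGroup.mk' _ (z.1 * u)) = ConjClasses.mk (QuotientGroup.mk' _ u)
      rw [map_mul, (QuotientGroup.eq_one_iff z.1).2 z.2 |> fun h => show QuotientGroup.mk' _ z.1 = 1 from h, one_mul]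
    · obtain ⟨u, rfl⟩ := ConjClasses.mk_surjective C
      obtain ⟨v, rfl⟩ := QuotientGroup.mk'_surjective _ u
      exact ⟨Quotient.mk'' (ConjClasses.mk v), rfl⟩
  rw [Nat.mul_comm (Nat.card (Subgroup.center _))]
  refine (Nat.mul_le_mul_left _ (Nat.mul_le_mul_right _ horb)).trans ?_
  rw [Nat.card_eq_fintype_card, Nat.card_eq_fintype_card,
    ← MulAction.sum_card_fixedBy_eq_card_orbits_mul_card_group, Finset.mul_sum]
  refine Finset.sum_le_sum fun z _ => ?_
  refine le_trans (Nat.mul_le_mul_left _ ?_) (W_le (n / orderOf z) ((-1 : F) ^ n))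
  obtain ⟨r, hr, hrz⟩ := Matrix.SpecialLinearGroup.mem_center_iff.1 z.2
  rw [Fintype.card_fin] at hr
  have hr0 : r ≠ 0 := fun h => by rw [h, zero_pow hn.ne'] at hr; exact zero_ne_one hr
  rw [← Nat.card_eq_fintype_card]
  refine le_trans (card_sl_subset_le (fun t => ∀ i, (t.1 i).scaleRoots r = t.1 i) (· ∈ MulAction.fixedBy _ z) ?_)
    (card_invariant_le n _ r (orderOf z) (orderOf_pos z) fun k hk => orderOf_dvd_of_pow_eq_one
      (Subtype.ext (Subtype.ext ?_)))
  · intro C hC i
    obtain ⟨u, rfl⟩ := ConjClasses.mk_surjective C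
    have hc : ConjClasses.mk (z.1 * u) = ConjClasses.mk u := hC
    obtain ⟨x, hx⟩ := isConj_iff.1 (ConjClasses.mk_eq_mk_iff_isConj.1 hc)
    have h1 : tupGL (SpecialLinearGroup.toGL (z.1 * u)) = tupGL (SpecialLinearGroup.toGL u) := by
      rw [← tupGL_conj (SpecialLinearGroup.toGL (z.1 * u)) (SpecialLinearGroup.toGL x), ← map_inv,
        ← map_mul, ← map_mul, hx]
    obtain ⟨D', hD'⟩ := (chosen (SpecialLinearGroup.toGL u)).exists_scale (Units.mk0 r hr0)
    have he : endo ((SpecialLinearGroup.toGL (z.1 * u) : GL (Fin n) F) : Matrix (Fin n) (Fin n) F) =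
        ((Units.mk0 r hr0 : Fˣ) : F) • endo ((SpecialLinearGroup.toGL u : GL (Fin n) F) : Matrix (Fin n) (Fin n) F) := by
      rw [← map_smul]
      refine congrArg _ ?_
      show (z.1 : Matrix (Fin n) (Fin n) F) * (u : Matrix (Fin n) (Fin n) F) = _
      rw [← hrz]
      exact (smul_eq_diagonal_mul _ _).symm
    have h2 : ∀ (T : Module.End F (Fin n → F)) (hT : Function.Surjective T) (E : Decomp T),
        endo ((SpecialLinearGroup.toGL (z.1 * u) : GL (Fin n) F) : Matrix (Fin n) (Fin n) F) = T →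
        tupGL (SpecialLinearGroup.toGL (z.1 * u)) = E.tup hT finrank_fin_fun := by
      rintro T hT E rfl
      exact tupGL_eq _ E
    have h3 := h2 _ (by rw [← he]; exact endo_surjective _) D' he
    show ((tupGL (SpecialLinearGroup.toGL u)).1 i).scaleRoots r = (tupGL (SpecialLinearGroup.toGL u)).1 i
    conv_rhs => rw [← h1, h3]
    exact (hD' _).symm
  · rw [SubgroupClass.coe_pow, Matrix.SpecialLinearGroup.coe_pow, ← hrz, ← map_pow, hk, map_one]
    rfl

theorem card_center_le [Fintype F] :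
    Nat.card (ConjClasses (SpecialLinearGroup (Fin n) F)) ≤
      Nat.card (Subgroup.center (SpecialLinearGroup (Fin n) F)) *
        Nat.card (ConjClasses (ProjectiveSpecialLinearGroup (Fin n) F)) := by
  let Z := Subgroup.center (SpecialLinearGroup (Fin n) F)
  let rep : ConjClasses (ProjectiveSpecialLinearGroup (Fin n) F) → SpecialLinearGroup (Fin n) F := fun C =>
    Function.surjInv (QuotientGroup.mk'_surjective Z) (Function.surjInv ConjClasses.mk_surjective C)
  rw [← Nat.card_prod]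
  refine Nat.card_le_card_of_surjective (fun p : Z × ConjClasses (ProjectiveSpecialLinearGroup (Fin n) F) =>
    ConjClasses.mk (p.1.1 * rep p.2)) fun C => ?_
  obtain ⟨u, rfl⟩ := ConjClasses.mk_surjective C
  have h : IsConj (QuotientGroup.mk' Z (rep (ConjClasses.mk (QuotientGroup.mk' Z u)))) (QuotientGroup.mk' Z u) := by
    simp only [rep]
    rw [Function.surjInv_eq (QuotientGroup.mk'_surjective Z), ← ConjClasses.mk_eq_mk_iff_isConj,
      Function.surjInv_eq ConjClasses.mk_surjective]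
  obtain ⟨x, hx⟩ := isConj_iff.1 h
  obtain ⟨x, rfl⟩ := QuotientGroup.mk'_surjective Z x
  rw [← map_inv, ← map_mul, ← map_mul, QuotientGroup.mk'_eq_mk'] at hx
  obtain ⟨z, hz, hz'⟩ := hx
  refine ⟨(⟨z, hz⟩, ConjClasses.mk (QuotientGroup.mk' Z u)), ConjClasses.mk_eq_mk_iff_isConj.2 (isConj_iff.2 ⟨x, ?_⟩)⟩
  show x * (z * rep (ConjClasses.mk (QuotientGroup.mk' Z u))) * x⁻¹ = u
  conv_rhs => rw [← hz', Subgroup.mem_center_iff.1 hz]
  rw [← mul_assoc x z, Subgroup.mem_center_iff.1 hz x]
  group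

theorem card_center_eq [Fintype F] (hn : 0 < n) :
    Nat.card (Subgroup.center (SpecialLinearGroup (Fin n) F)) = Nat.gcd n (Fintype.card F - 1) := by
  haveI : NeZero n := ⟨hn.ne'⟩
  rw [Nat.card_congr (Matrix.SpecialLinearGroup.center_equiv_rootsOfUnity' (0 : Fin n)).toEquiv, Fintype.card_fin,
    Nat.gcd_comm, ← Nat.card_eq_fintype_card, ← Nat.card_units, ← IsCyclic.card_powMonoidHom_ker]
  rfl

end CfsgLib.ClassNumber
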