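import Cfsg.Agent.Lib.ClassCount.Linear.Weights

/-!
# Primary decompositions of an endomorphism and their tuples
-/

set_option autoImplicit false

open Polynomial
open scoped DirectSum

namespace CfsgLib.ClassNumber

universe u

variable {F : Type u} [Field F]

/-- `AdjoinRoot` of equal polynomials. -/
noncomputable def castRoot {a b : F[X]} (h : a = b) : AdjoinRoot a ≃ₐ[F] AdjoinRoot b :=
  h ▸ AlgEquiv.refl

theorem castRoot_root {a b : F[X]} (h : a = b) : castRoot h (AdjoinRoot.root a) = AdjoinRoot.root b := by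
  subst h; rfl

variable {V : Type u} [AddCommGroup V] [Module F V]

/-- `V` as a product of modules `F[X] / (p ^ e)`, the endomorphism being multiplication by `X`. -/
structure Decomp (T : Module.End F V) where
  ι : Type u
  [fin : Fintype ι]
  p : ι → F[X]
  e : ι → ℕ
  monic : ∀ i, (p i).Monic
  irr : ∀ i, Irreducible (p i)
  Φ : V ≃ₗ[F] ∀ i, AdjoinRoot (p i ^ e i)
  comm : ∀ v i, Φ (T v) i = AdjoinRoot.root (p i ^ e i) * Φ v i

attribute [instance] Decomp.fin

theorem exists_decomp [FiniteDimensional F V] (T : Module.End F V) : Nonempty (Decomp T) := by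
  classical
  obtain ⟨I, fI, p, hp, e, ⟨Φ⟩⟩ := Module.equiv_directSum_of_isTorsion (R := F[X]) (M := Module.AEval' T)
    (Module.AEval.isTorsion_of_finiteDimensional _ _ _)
  have hmon : ∀ i, (normalize (p i)).Monic := fun i => monic_normalize (hp i).ne_zero
  have hspan : ∀ i, (F[X] ∙ p i ^ e i) = Ideal.span {normalize (p i) ^ e i} := fun i =>
    Ideal.span_singleton_eq_span_singleton.2 ((associated_normalize (p i)).pow_pow)
  let θ : ∀ i, (F[X] ⧸ (F[X] ∙ p i ^ e i)) ≃+ AdjoinRoot (normalize (p i) ^ e i) := fun i =>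
    (Submodule.quotEquivOfEq (F[X] ∙ p i ^ e i) (Ideal.span {normalize (p i) ^ e i}) (hspan i)).toAddEquiv
  have hθ : ∀ i (P : F[X]), θ i (Submodule.Quotient.mk P) = AdjoinRoot.mk _ P := fun i P => rfl
  have hX : ∀ i (P : F[X]) (z : F[X] ⧸ (F[X] ∙ p i ^ e i)), θ i (P • z) = AdjoinRoot.mk _ P * θ i z := by
    intro i P z
    obtain ⟨Q, rfl⟩ := Submodule.Quotient.mk_surjective _ z
    rw [← Submodule.Quotient.mk_smul, hθ, hθ, smul_eq_mul, map_mul]
  let ψ : V ≃+ ∀ i, AdjoinRoot (normalize (p i) ^ e i) :=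
    ((Module.AEval'.of T).toAddEquiv.trans
      (Φ.trans (DirectSum.linearEquivFunOnFintype F[X] I _)).toAddEquiv).trans
      (AddEquiv.piCongrRight θ)
  have hψ : ∀ v i, ψ v i = θ i (Φ (Module.AEval'.of T v) i) := fun v i => rfl
  refine ⟨{
    ι := I, fin := fI, p := fun i => normalize (p i), e := e, monic := hmon
    irr := fun i => (associated_normalize (p i)).irreducible (hp i)
    Φ := ψ.toLinearEquiv fun c v => funext fun i => ?_
    comm := fun v i => ?_ }⟩
  · rw [Pi.smul_apply, hψ, hψ, map_smul, ← algebraMap_smul F[X] c (Module.AEval'.of T v), map_smul,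
      DirectSum.smul_apply, hX, Polynomial.algebraMap_eq, AdjoinRoot.mk_C, Algebra.smul_def, AdjoinRoot.algebraMap_eq]
  · show ψ (T v) i = _ * ψ v i
    rw [hψ, hψ, ← Module.AEval'.X_smul_of T v, map_smul, DirectSum.smul_apply, hX, AdjoinRoot.mk_X]

namespace Decomp

variable {T : Module.End F V} (D : Decomp T)

theorem pow_monic (i : D.ι) : (D.p i ^ D.e i).Monic := (D.monic i).pow _

theorem finite_root (i : D.ι) : Module.Finite F (AdjoinRoot (D.p i ^ D.e i)) :=
  (AdjoinRoot.powerBasis (D.pow_monic i).ne_zero).finite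

theorem finrank_root (i : D.ι) :
    Module.finrank F (AdjoinRoot (D.p i ^ D.e i)) = D.e i * (D.p i).natDegree := by
  rw [(AdjoinRoot.powerBasis (D.pow_monic i).ne_zero).finrank, AdjoinRoot.powerBasis_dim, natDegree_pow]

theorem finrank_eq : Module.finrank F V = ∑ i, D.e i * (D.p i).natDegree := by
  haveI := D.finite_root
  haveI := fun i => Module.Free.of_divisionRing F (AdjoinRoot (D.p i ^ D.e i))
  rw [D.Φ.finrank_eq, Module.finrank_pi_fintype]
  exact Finset.sum_congr rfl fun i _ => D.finrank_root i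

theorem aeval_apply (P : F[X]) (v : V) (i : D.ι) :
    D.Φ (aeval T P v) i = AdjoinRoot.mk (D.p i ^ D.e i) P * D.Φ v i := by
  induction P using Polynomial.induction_on' generalizing v with
  | add P Q hP hQ => rw [map_add, map_add, LinearMap.add_apply, map_add, Pi.add_apply, hP, hQ, add_mul]
  | monomial k a =>
    rw [aeval_monomial, ← C_mul_X_pow_eq_monomial, map_mul, map_pow, AdjoinRoot.mk_C, AdjoinRoot.mk_X]
    induction k generalizing v with
    | zero =>
      rw [pow_zero, pow_zero, mul_one, mul_one, Module.algebraMap_end_apply, map_smul, Pi.smul_apply,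
        Algebra.smul_def, AdjoinRoot.algebraMap_eq]
    | succ k ih =>
      rw [pow_succ, ← mul_assoc, Module.End.mul_apply, ih, D.comm, pow_succ]
      ring

theorem subsingleton (i : D.ι) (h : D.e i = 0) : Subsingleton (AdjoinRoot (D.p i ^ D.e i)) :=
  subsingleton_of_zero_eq_one (by
    rw [← map_one (AdjoinRoot.mk (D.p i ^ D.e i)), eq_comm, AdjoinRoot.mk_eq_zero, h, pow_zero])

theorem nontrivial (i : D.ι) (h : D.e i ≠ 0) : Nontrivial (AdjoinRoot (D.p i ^ D.e i)) := by
  refine AdjoinRoot.nontrivial _ fun h0 => ?_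
  have h1 := natDegree_eq_zero_iff_degree_le_zero.2 h0.le
  rw [natDegree_pow, mul_eq_zero] at h1
  exact h1.elim h (D.irr i).natDegree_pos.ne'

theorem coeff_zero_ne (hT : Function.Surjective T) (i : D.ι) (h : D.e i ≠ 0) : (D.p i).coeff 0 ≠ 0 := by
  classical
  intro h0
  haveI := D.nontrivial i h
  have hX : D.p i = X :=
    (eq_of_monic_of_associated monic_X (D.monic i) (irreducible_X.associated_of_dvd (D.irr i) (X_dvd_iff.2 h0))).symm
  obtain ⟨v, hv⟩ := hT (D.Φ.symm (Pi.single i 1))
  have h1 : AdjoinRoot.root (D.p i ^ D.e i) * D.Φ v i = 1 := by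
    rw [← D.comm, hv, LinearEquiv.apply_symm_apply, Pi.single_eq_same]
  have h2 : AdjoinRoot.root (D.p i ^ D.e i) ^ D.e i = 0 := by
    rw [← AdjoinRoot.mk_X, ← map_pow, AdjoinRoot.mk_eq_zero, hX]
  have h3 := congrArg (· ^ D.e i) h1
  simp only [mul_pow, h2, zero_mul, one_pow] at h3
  exact zero_ne_one h3

/-- The product of the `p i` with `e i = k`. -/
noncomputable def part (k : ℕ) : F[X] := ∏ i ∈ Finset.univ.filter (fun i => D.e i = k), D.p i

theorem part_monic (k : ℕ) : (D.part k).Monic := monic_prod_of_monic _ _ fun i _ => D.monic i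

theorem natDegree_part (k : ℕ) :
    (D.part k).natDegree = ∑ i ∈ Finset.univ.filter (fun i => D.e i = k), (D.p i).natDegree :=
  natDegree_prod_of_monic _ _ fun i _ => D.monic i

theorem e_le {n : ℕ} (hn : Module.finrank F V = n) (i : D.ι) : D.e i ≤ n :=
  hn ▸ D.finrank_eq ▸ (Nat.le_mul_of_pos_right _ (D.irr i).natDegree_pos).trans
    (Finset.single_le_sum (f := fun i => D.e i * (D.p i).natDegree) (fun _ _ => Nat.zero_le _) (Finset.mem_univ i))

/-- The tuple of a decomposition. -/
noncomputable def tup {n : ℕ} (hT : Function.Surjective T) (hn : Module.finrank F V = n) : Tup F n :=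
  ⟨fun k => D.part (1 + k), fun k => ⟨D.part_monic _, by
    show (∏ i ∈ Finset.univ.filter (fun i => D.e i = 1 + (k : ℕ)), D.p i).coeff 0 ≠ 0
    rw [Polynomial.coeff_zero_prod]
    refine Finset.prod_ne_zero_iff.2 fun i hi => D.coeff_zero_ne hT i ?_
    rw [(Finset.mem_filter.1 hi).2]
    omega⟩, by
    classical
    conv_rhs => rw [← hn, D.finrank_eq,
      ← Finset.sum_fiberwise_of_maps_to (g := D.e) (t := Finset.range (n + 1))
        (fun i _ => Finset.mem_range.2 (Nat.lt_succ_of_le (D.e_le hn i))) (fun i => D.e i * (D.p i).natDegree)]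
    rw [Finset.sum_range_succ', ← Fin.sum_univ_eq_sum_range
      (fun k => ∑ i ∈ Finset.univ.filter (fun i => D.e i = k + 1), D.e i * (D.p i).natDegree)]
    rw [Finset.sum_eq_zero (s := Finset.univ.filter fun i => D.e i = 0) (fun i hi => by
      rw [(Finset.mem_filter.1 hi).2, zero_mul]), add_zero]
    refine Finset.sum_congr rfl fun k _ => ?_
    rw [D.natDegree_part, Finset.mul_sum, add_comm 1 (k : ℕ)]
    exact Finset.sum_congr rfl fun i hi => by rw [(Finset.mem_filter.1 hi).2]⟩

theorem exists_equiv_of_tup_eq {T' : Module.End F V} [FiniteDimensional F V] (D' : Decomp T') {n : ℕ}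
    (hT : Function.Surjective T) (hT' : Function.Surjective T') (hn : Module.finrank F V = n)
    (h : D.tup hT hn = D'.tup hT' hn) : ∃ L : V ≃ₗ[F] V, ∀ v, L (T v) = T' (L v) := by
  classical
  have hcard : ∀ (P : F[X]) (k : ℕ), k ≠ 0 →
      Nat.card {i : D.ι // D.e i = k ∧ D.p i = P} = Nat.card {i : D'.ι // D'.e i = k ∧ D'.p i = P} := by
    intro P k hk
    by_cases hkn : k ≤ n
    · have he := congrFun (congrArg Subtype.val h) ⟨k - 1, by omega⟩
      simp only [tup, part, show 1 + (k - 1) = k by omega] at he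
      have hms : (Finset.univ.filter fun i => D.e i = k).val.map D.p =
          (Finset.univ.filter fun i => D'.e i = k).val.map D'.p := by
        rw [← Multiset.rel_eq]
        refine ((UniqueFactorizationMonoid.factors_unique (fun x hx => ?_) (fun x hx => ?_)
          (Associated.of_eq (by simpa [Finset.prod] using he))).mono fun a ha b hb hab => ?_)
        · obtain ⟨i, -, rfl⟩ := Multiset.mem_map.1 hx
          exact D.irr i
        · obtain ⟨i, -, rfl⟩ := Multiset.mem_map.1 hx
          exact D'.irr i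
        · obtain ⟨i, -, rfl⟩ := Multiset.mem_map.1 ha
          obtain ⟨j, -, rfl⟩ := Multiset.mem_map.1 hb
          exact eq_of_monic_of_associated (D.monic i) (D'.monic j) hab
      have := congrArg (Multiset.count P) hms
      rw [Multiset.count_map, Multiset.count_map, ← Finset.filter_val, ← Finset.filter_val, Finset.filter_filter,
        Finset.filter_filter, Finset.card_val, Finset.card_val] at this
      rw [Nat.card_eq_fintype_card, Nat.card_eq_fintype_card, Fintype.card_subtype, Fintype.card_subtype]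
      simpa only [eq_comm (a := P)] using this
    · haveI : IsEmpty {i : D.ι // D.e i = k ∧ D.p i = P} := ⟨fun i => hkn (i.2.1 ▸ D.e_le hn i.1)⟩
      haveI : IsEmpty {i : D'.ι // D'.e i = k ∧ D'.p i = P} := ⟨fun i => hkn (i.2.1 ▸ D'.e_le hn i.1)⟩
      simp
  let f : {i : D.ι // D.e i ≠ 0} → F[X] × ℕ := fun i => (D.p i.1, D.e i.1)
  let g : {i : D'.ι // D'.e i ≠ 0} → F[X] × ℕ := fun i => (D'.p i.1, D'.e i.1)
  have hfib : ∀ c : F[X] × ℕ, Nonempty ({i // f i = c} ≃ {i // g i = c}) := fun c => by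
    refine ⟨Fintype.equivOfCardEq ?_⟩
    rw [← Nat.card_eq_fintype_card, ← Nat.card_eq_fintype_card]
    by_cases hc : c.2 = 0
    · haveI : IsEmpty {i // f i = c} := ⟨fun i => i.1.2 ((congrArg Prod.snd i.2).trans hc)⟩
      haveI : IsEmpty {i // g i = c} := ⟨fun i => i.1.2 ((congrArg Prod.snd i.2).trans hc)⟩
      simp
    · refine (Nat.card_congr ?_).trans ((hcard c.1 c.2 hc).trans (Nat.card_congr ?_))
      · exact ⟨fun i => ⟨i.1.1, (congrArg Prod.snd i.2), (congrArg Prod.fst i.2)⟩,
          fun i => ⟨⟨i.1, fun h0 => hc (i.2.1.symm.trans h0)⟩, Prod.ext i.2.2 i.2.1⟩, fun _ => rfl, fun _ => rfl⟩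
      · exact ⟨fun i => ⟨⟨i.1, fun h0 => hc (i.2.1.symm.trans h0)⟩, Prod.ext i.2.2 i.2.1⟩,
          fun i => ⟨i.1.1, (congrArg Prod.snd i.2), (congrArg Prod.fst i.2)⟩, fun _ => rfl, fun _ => rfl⟩
  let σ := Equiv.ofFiberEquiv fun c => (hfib c).some
  have hσ : ∀ i, g (σ i) = f i := fun i => Equiv.ofFiberEquiv_map _ i
  have hpe : ∀ j, D.p (σ.symm j).1 ^ D.e (σ.symm j).1 = D'.p j.1 ^ D'.e j.1 := fun j => by
    have := hσ (σ.symm j)
    rw [Equiv.apply_symm_apply] at this
    simp only [f, g, Prod.mk.injEq] at this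
    rw [this.1, this.2]
  let L₀ : (∀ i, AdjoinRoot (D.p i ^ D.e i)) →ₗ[F] ∀ j, AdjoinRoot (D'.p j ^ D'.e j) :=
    LinearMap.pi fun j => if hj : D'.e j ≠ 0 then
      (castRoot (hpe ⟨j, hj⟩)).toLinearMap ∘ₗ LinearMap.proj (σ.symm ⟨j, hj⟩).1 else 0
  let L : V →ₗ[F] V := D'.Φ.symm.toLinearMap ∘ₗ L₀ ∘ₗ D.Φ.toLinearMap
  have hL : ∀ v j (hj : D'.e j ≠ 0), D'.Φ (L v) j = castRoot (hpe ⟨j, hj⟩) (D.Φ v (σ.symm ⟨j, hj⟩).1) := by
    intro v j hj
    simp only [L, LinearMap.comp_apply, LinearEquiv.coe_coe, LinearEquiv.apply_symm_apply, L₀, LinearMap.pi_apply,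
      dif_pos hj]
    rfl
  have hinj : Function.Injective L := by
    rw [← LinearMap.ker_eq_bot, LinearMap.ker_eq_bot']
    intro v hv
    refine D.Φ.injective (funext fun i => ?_)
    rw [map_zero, Pi.zero_apply]
    by_cases hi : D.e i = 0
    · haveI := D.subsingleton i hi
      exact Subsingleton.elim _ _
    · have := hL v (σ ⟨i, hi⟩).1 (σ ⟨i, hi⟩).2
      rw [hv, map_zero, Pi.zero_apply, eq_comm, map_eq_zero_iff _ (AlgEquiv.injective _)] at this
      rwa [Subtype.coe_eta, Equiv.symm_apply_apply] at this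
  refine ⟨LinearEquiv.ofInjectiveEndo L hinj, fun v => D'.Φ.injective (funext fun j => ?_)⟩
  rw [LinearEquiv.coe_ofInjectiveEndo, D'.comm]
  by_cases hj : D'.e j = 0
  · haveI := D'.subsingleton j hj
    exact Subsingleton.elim _ _
  · rw [hL _ j hj, hL _ j hj, D.comm, map_mul, castRoot_root]

end Decomp

end CfsgLib.ClassNumber
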