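import Cfsg.Agent.Lib.ClassCount.Linear.Decomp

/-!
# The tuple of an endomorphism is canonical; scaling; determinants of commuting maps
-/

set_option autoImplicit false

open Polynomial
open scoped Classical

namespace CfsgLib.ClassNumber

universe u

variable {F : Type u} [Field F]

theorem card_mk_mul_eq_zero [Fintype F] {p : F[X]} (hp : p.Monic) (e k : ℕ) :
    Nat.card {z : AdjoinRoot (p ^ e) // AdjoinRoot.mk (p ^ e) (p ^ k) * z = 0} =
      Fintype.card F ^ (min k e * p.natDegree) := by
  classical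
  have hcard : ∀ m, Nat.card (AdjoinRoot (p ^ m)) = Fintype.card F ^ (m * p.natDegree) := fun m => by
    haveI := (AdjoinRoot.powerBasis (hp.pow m).ne_zero).finite
    rw [Module.natCard_eq_pow_finrank (K := F), (AdjoinRoot.powerBasis (hp.pow m).ne_zero).finrank,
      AdjoinRoot.powerBasis_dim, natDegree_pow, Nat.card_eq_fintype_card]
  rcases le_total e k with hle | hle
  · rw [min_eq_right hle, ← hcard e]
    refine Nat.card_congr (Equiv.subtypeUnivEquiv fun z => ?_)
    rw [AdjoinRoot.mk_eq_zero.2 (pow_dvd_pow p hle), zero_mul]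
  · rw [min_eq_left hle, ← hcard k]
    have hrep := fun z : AdjoinRoot (p ^ k) => Function.surjInv_eq (AdjoinRoot.mk_surjective (g := p ^ k)) z
    refine (Nat.card_congr (Equiv.ofBijective
      (fun z : AdjoinRoot (p ^ k) => (⟨AdjoinRoot.mk (p ^ e)
        (p ^ (e - k) * Function.surjInv (AdjoinRoot.mk_surjective (g := p ^ k)) z), by
          rw [← map_mul, AdjoinRoot.mk_eq_zero, ← mul_assoc, ← pow_add, Nat.add_sub_cancel' hle]
          exact dvd_mul_right _ _⟩ : {z : AdjoinRoot (p ^ e) // AdjoinRoot.mk (p ^ e) (p ^ k) * z = 0})) ⟨?_, ?_⟩)).symm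
    · intro a b h
      have h' := congrArg Subtype.val h
      simp only at h'
      rw [AdjoinRoot.mk_eq_mk, ← mul_sub] at h'
      conv_lhs at h' => rw [← Nat.sub_add_cancel hle, pow_add]
      rw [mul_dvd_mul_iff_left (pow_ne_zero _ hp.ne_zero), ← AdjoinRoot.mk_eq_mk, hrep, hrep] at h'
      exact h'
    · rintro ⟨w, hw⟩
      obtain ⟨Q, rfl⟩ := AdjoinRoot.mk_surjective w
      rw [← map_mul, AdjoinRoot.mk_eq_zero] at hw
      conv_lhs at hw => rw [← Nat.add_sub_cancel' hle, pow_add]
      rw [mul_dvd_mul_iff_left (pow_ne_zero _ hp.ne_zero)] at hw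
      obtain ⟨R, rfl⟩ := hw
      refine ⟨AdjoinRoot.mk _ R, Subtype.ext (AdjoinRoot.mk_eq_mk.2 ?_)⟩
      rw [← mul_sub]
      conv_lhs => rw [← Nat.sub_add_cancel hle, pow_add]
      exact mul_dvd_mul_left _ (AdjoinRoot.mk_eq_mk.1 (hrep _))

theorem card_mk_mul_eq_zero_of_ne {p P : F[X]} (hp : p.Monic) (hpi : Irreducible p) (hP : P.Monic)
    (hPi : Irreducible P) (hne : p ≠ P) (e k : ℕ) :
    Nat.card {z : AdjoinRoot (p ^ e) // AdjoinRoot.mk (p ^ e) (P ^ k) * z = 0} = 1 := by
  have hcop : IsCoprime (P ^ k) (p ^ e) := (hPi.coprime_iff_not_dvd.2 fun h =>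
    hne (eq_of_monic_of_associated hp hP (hPi.associated_of_dvd hpi h).symm)).pow
  obtain ⟨a, b, hab⟩ := hcop
  have h1 : AdjoinRoot.mk (p ^ e) a * AdjoinRoot.mk (p ^ e) (P ^ k) = 1 := by
    rw [← map_mul, ← map_one (AdjoinRoot.mk (p ^ e)), AdjoinRoot.mk_eq_mk, ← hab]
    exact ⟨-b, by ring⟩
  refine Nat.card_eq_one_iff_unique.2 ⟨⟨fun z w => Subtype.ext ?_⟩, ⟨⟨0, mul_zero _⟩⟩⟩
  have hz : ∀ z : {z : AdjoinRoot (p ^ e) // AdjoinRoot.mk (p ^ e) (P ^ k) * z = 0}, z.1 = 0 := fun z => by
    rw [← one_mul z.1, ← h1, mul_assoc, z.2, mul_zero]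
  rw [hz, hz]

theorem det_aeval_X_sub_C {K L : Type*} [CommRing K] [Fintype L] [DecidableEq L] (M : Matrix L L K) (β : K) :
    (aeval M (X - C β)).det = (-1) ^ Fintype.card L * M.charpoly.eval β := by
  rw [Matrix.eval_charpoly, ← Matrix.det_neg, map_sub, aeval_X, aeval_C, neg_sub]
  rfl

theorem det_aeval_map {K L : Type*} [Field K] [Algebra F K] [Fintype L] [DecidableEq L] (M : Matrix L L F) (P : F[X]) :
    algebraMap F K (aeval M P).det = (aeval (M.map (algebraMap F K)) (P.map (algebraMap F K))).det := by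
  rw [RingHom.map_det]
  congr 1
  rw [aeval_def, hom_eval₂, aeval_def, eval₂_map]
  congr 1
  refine RingHom.ext fun c => Matrix.ext fun a b => ?_
  by_cases hab : a = b <;> simp [Matrix.algebraMap_matrix_apply, hab]

theorem det_aeval_eq {N M : Type*} [Fintype N] [DecidableEq N] [Fintype M] [DecidableEq M] (A : Matrix N N F)
    (B : Matrix M M F) (e : ℕ) (h : A.charpoly = B.charpoly ^ e) (P : F[X]) :
    (aeval A P).det = (aeval B P).det ^ e := by
  classical
  let K := AlgebraicClosure F
  let i := algebraMap F K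
  apply i.injective
  have hN : Fintype.card N = Fintype.card M * e := by
    have := congrArg Polynomial.natDegree h
    rw [natDegree_pow, Matrix.charpoly_natDegree_eq_dim, Matrix.charpoly_natDegree_eq_dim, mul_comm] at this
    exact this
  have hK : ∀ g : K[X], (aeval (A.map i) g).det = (aeval (B.map i) g).det ^ e := by
    intro g
    have hC : ∀ a : K, (aeval (A.map i) (C a)).det = (aeval (B.map i) (C a)).det ^ e := fun a => by
      rw [aeval_C, aeval_C, Algebra.algebraMap_eq_smul_one, Algebra.algebraMap_eq_smul_one, Matrix.det_smul,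
        Matrix.det_smul, Matrix.det_one, Matrix.det_one, mul_one, mul_one, hN, pow_mul]
    have hX : ∀ β : K, (aeval (A.map i) (X - C β)).det = (aeval (B.map i) (X - C β)).det ^ e := fun β => by
      rw [det_aeval_X_sub_C, det_aeval_X_sub_C, Matrix.charpoly_map, Matrix.charpoly_map, h, Polynomial.map_pow, eval_pow, hN, mul_pow, pow_mul]
    rw [(IsAlgClosed.splits g).eq_prod_roots]
    generalize g.roots = s
    induction s using Multiset.induction with
    | empty => simpa using hC g.leadingCoeff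
    | cons β s ih =>
      rw [Multiset.map_cons, Multiset.prod_cons, mul_left_comm]
      generalize C g.leadingCoeff * (Multiset.map (fun x => X - C x) s).prod = R at ih ⊢
      rw [map_mul, map_mul, Matrix.det_mul, Matrix.det_mul, ih, hX, mul_pow]
  rw [map_pow, det_aeval_map, det_aeval_map, hK]

theorem norm_mk_pow [Fintype F] {p : F[X]} (hp : p.Monic) (e : ℕ) (P : F[X]) :
    Algebra.norm F (AdjoinRoot.mk (p ^ e) P) = Algebra.norm F (AdjoinRoot.mk p P) ^ e := by
  have hm : ∀ (r : F[X]) (hr : r.Monic), Algebra.norm F (AdjoinRoot.mk r P) =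
      (aeval (Algebra.leftMulMatrix (AdjoinRoot.powerBasis' hr).basis
        (AdjoinRoot.powerBasis' hr).gen) P).det := fun r hr => by
    rw [aeval_algHom_apply, AdjoinRoot.powerBasis'_gen, AdjoinRoot.aeval_eq, ← Algebra.norm_eq_matrix_det]
  rw [hm _ (hp.pow e), hm _ hp]
  refine det_aeval_eq _ _ e ?_ P
  rw [charpoly_leftMulMatrix, charpoly_leftMulMatrix, AdjoinRoot.powerBasis'_gen, AdjoinRoot.powerBasis'_gen,
    AdjoinRoot.minpoly_root (hp.pow e).ne_zero, AdjoinRoot.minpoly_root hp.ne_zero, (hp.pow e).leadingCoeff,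
    hp.leadingCoeff, inv_one, C_1, mul_one, mul_one]

theorem norm_pi {ι : Type*} [Fintype ι] {A : ι → Type*} [∀ i, CommRing (A i)] [∀ i, Algebra F (A i)]
    [∀ i, Module.Finite F (A i)] (v : ∀ i, A i) : Algebra.norm F v = ∏ i, Algebra.norm F (v i) := by
  classical
  conv_lhs => rw [← Finset.univ_prod_mulSingle v]
  rw [map_prod]
  refine Finset.prod_congr rfl fun i _ => ?_
  let E : (∀ j, A j) ≃ₗ[F] A i × (∀ j : {j // j ≠ i}, A j.1) :=
    { Equiv.piSplitAt i A with
      map_add' := fun _ _ => rfl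
      map_smul' := fun _ _ => rfl }
  have h : E.toLinearMap ∘ₗ LinearMap.mul F (∀ j, A j) (Pi.mulSingle i (v i)) ∘ₗ E.symm.toLinearMap =
      (LinearMap.mul F (A i) (v i)).prodMap LinearMap.id := by
    refine LinearMap.ext fun w => ?_
    obtain ⟨z, rfl⟩ := E.surjective w
    simp only [LinearMap.comp_apply, LinearEquiv.coe_coe, LinearEquiv.symm_apply_apply, LinearMap.mul_apply']
    refine Prod.ext ?_ (funext fun j => ?_)
    · show (Pi.mulSingle i (v i) * z) i = v i * z i
      rw [Pi.mul_apply, Pi.mulSingle_eq_same]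
    · show (Pi.mulSingle i (v i) * z) j.1 = z j.1
      rw [Pi.mul_apply, Pi.mulSingle_eq_of_ne j.2, one_mul]
  have h2 := congrArg LinearMap.det h
  rw [LinearMap.det_conj, LinearMap.det_prodMap, LinearMap.det_id, mul_one] at h2
  rw [Algebra.norm_apply, Algebra.norm_apply]
  exact h2

variable {V : Type u} [AddCommGroup V] [Module F V]

namespace Decomp

variable {T : Module.End F V} (D : Decomp T)

theorem card_ker_pow [Fintype F] (P : F[X]) (hP : P.Monic) (hPi : Irreducible P) (k : ℕ) :
    Nat.card {v : V // aeval T (P ^ k) v = 0} =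
      Fintype.card F ^ ((∑ i, if D.p i = P then min k (D.e i) else 0) * P.natDegree) := by
  classical
  have e : {v : V // aeval T (P ^ k) v = 0} ≃
      ∀ i, {z : AdjoinRoot (D.p i ^ D.e i) // AdjoinRoot.mk (D.p i ^ D.e i) (P ^ k) * z = 0} :=
    (Equiv.subtypeEquiv D.Φ.toEquiv fun v => by
      rw [← map_eq_zero_iff D.Φ D.Φ.injective, funext_iff]
      simp only [D.aeval_apply, Pi.zero_apply]
      rfl).trans Equiv.subtypePiEquivPi
  rw [Nat.card_congr e, Nat.card_pi, Finset.sum_mul, ← Finset.prod_pow_eq_pow_sum]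
  refine Finset.prod_congr rfl fun i _ => ?_
  by_cases h : D.p i = P
  · subst h
    rw [if_pos rfl, card_mk_mul_eq_zero (D.monic i)]
  · rw [if_neg h, zero_mul, pow_zero, card_mk_mul_eq_zero_of_ne (D.monic i) (D.irr i) hP hPi h]

theorem part_eq [Fintype F] (D' : Decomp T) (k : ℕ) (hk : k ≠ 0) : D.part k = D'.part k := by
  classical
  have hN : ∀ (E : Decomp T) (P : F[X]), (Finset.univ.filter fun i => E.e i = k ∧ E.p i = P).card +
      (∑ i, if E.p i = P then min (k - 1) (E.e i) else 0) + (∑ i, if E.p i = P then min (k + 1) (E.e i) else 0) =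
      2 * ∑ i, if E.p i = P then min k (E.e i) else 0 := fun E P => by
    rw [Finset.card_filter, ← Finset.sum_add_distrib, ← Finset.sum_add_distrib, Finset.mul_sum]
    refine Finset.sum_congr rfl fun i _ => ?_
    by_cases hp : E.p i = P
    · simp only [hp, and_true, if_true]
      split_ifs <;> omega
    · simp [hp]
  have hms : ((Finset.univ.filter fun i => D.e i = k).val.map D.p) =
      ((Finset.univ.filter fun i => D'.e i = k).val.map D'.p) := by
    refine Multiset.ext' fun P => ?_
    simp only [Multiset.count_map, ← Finset.filter_val, Finset.filter_filter, Finset.card_val, eq_comm (a := P)]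
    by_cases hP : P.Monic ∧ Irreducible P
    · have hf : ∀ j, (∑ i, if D.p i = P then min j (D.e i) else 0) = ∑ i, if D'.p i = P then min j (D'.e i) else 0 :=
        fun j => Nat.eq_of_mul_eq_mul_right hP.2.natDegree_pos (Nat.pow_right_injective Fintype.one_lt_card
          ((D.card_ker_pow P hP.1 hP.2 j).symm.trans (D'.card_ker_pow P hP.1 hP.2 j)))
      have h1 := hN D P
      have h2 := hN D' P
      rw [hf, hf, hf] at h1
      omega
    · have hz : ∀ E : Decomp T, (Finset.univ.filter fun i => E.e i = k ∧ E.p i = P).card = 0 := fun E =>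
        Finset.card_eq_zero.2 (Finset.filter_eq_empty_iff.2 fun i _ h => hP (h.2 ▸ ⟨E.monic i, E.irr i⟩))
      rw [hz, hz]
  exact congrArg Multiset.prod hms

theorem tup_eq [Fintype F] (D' : Decomp T) {n : ℕ} (hT : Function.Surjective T) (hn : Module.finrank F V = n) :
    D.tup hT hn = D'.tup hT hn :=
  Subtype.ext (funext fun _ => D.part_eq D' _ (by omega))

/-- Transport along a conjugation. -/
noncomputable def transport {T' : Module.End F V} (L : V ≃ₗ[F] V) (h : ∀ v, L (T v) = T' (L v)) : Decomp T' where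
  ι := D.ι
  p := D.p
  e := D.e
  monic := D.monic
  irr := D.irr
  Φ := L.symm.trans D.Φ
  comm v i := by
    obtain ⟨w, rfl⟩ := L.surjective v
    rw [← h]
    simp [D.comm]

/-- Multiplication by a tuple. -/
noncomputable def mulMap (x : ∀ i, AdjoinRoot (D.p i ^ D.e i)) : Module.End F V :=
  D.Φ.symm.toLinearMap ∘ₗ LinearMap.mul F (∀ i, AdjoinRoot (D.p i ^ D.e i)) x ∘ₗ D.Φ.toLinearMap

theorem mulMap_apply (x : ∀ i, AdjoinRoot (D.p i ^ D.e i)) (v : V) (i : D.ι) :
    D.Φ (D.mulMap x v) i = x i * D.Φ v i := by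
  simp [mulMap]

theorem det_mulMap (x : ∀ i, AdjoinRoot (D.p i ^ D.e i)) :
    LinearMap.det (D.mulMap x) = ∏ i, Algebra.norm F (x i) := by
  haveI := D.finite_root
  rw [← norm_pi, Algebra.norm_apply]
  exact LinearMap.det_conj _ D.Φ.symm

theorem mulMap_comm (x : ∀ i, AdjoinRoot (D.p i ^ D.e i)) : D.mulMap x * T = T * D.mulMap x := by
  refine LinearMap.ext fun v => D.Φ.injective (funext fun i => ?_)
  rw [Module.End.mul_apply, Module.End.mul_apply, D.mulMap_apply, D.comm, D.comm, D.mulMap_apply, mul_left_comm]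

theorem det_eq : LinearMap.det T = (-1) ^ Module.finrank F V * ∏ i, (D.p i).coeff 0 ^ D.e i := by
  have h : D.mulMap (fun i => AdjoinRoot.root _) = T := LinearMap.ext fun v => D.Φ.injective (funext fun i => by
    rw [D.mulMap_apply, D.comm])
  conv_lhs => rw [← h]
  rw [D.det_mulMap, D.finrank_eq, ← Finset.prod_pow_eq_pow_sum, ← Finset.prod_mul_distrib]
  refine Finset.prod_congr rfl fun i _ => ?_
  rw [← AdjoinRoot.powerBasis_gen (D.pow_monic i).ne_zero, Algebra.PowerBasis.norm_gen_eq_coeff_zero_minpoly,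
    AdjoinRoot.powerBasis_gen, AdjoinRoot.minpoly_root (D.pow_monic i).ne_zero, (D.pow_monic i).leadingCoeff,
    inv_one, C_1, mul_one, AdjoinRoot.powerBasis_dim, natDegree_pow, coeff_zero_eq_eval_zero, eval_pow,
    ← coeff_zero_eq_eval_zero]

theorem exists_commute_det [Fintype F] (i : D.ι) (c : Fˣ) :
    ∃ S : Module.End F V, S * T = T * S ∧ LinearMap.det S = (c : F) ^ D.e i := by
  classical
  haveI : Fact (Irreducible (D.p i)) := ⟨D.irr i⟩
  haveI := (AdjoinRoot.powerBasis (D.irr i).ne_zero).finite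
  haveI : Finite (AdjoinRoot (D.p i)) := Module.finite_of_finite F
  obtain ⟨y, hy⟩ := FiniteField.norm_surjective F (AdjoinRoot (D.p i)) (c : F)
  obtain ⟨P, rfl⟩ := AdjoinRoot.mk_surjective y
  refine ⟨D.mulMap (Pi.mulSingle i (AdjoinRoot.mk _ P)), D.mulMap_comm _, ?_⟩
  rw [D.det_mulMap, Finset.prod_eq_single i (fun j _ hj => by rw [Pi.mulSingle_eq_of_ne hj, map_one])
    (by simp), Pi.mulSingle_eq_same, norm_mk_pow (D.monic i), hy]

end Decomp

end CfsgLib.ClassNumber
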