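import Mathlib

/-!
# The coefficients of `∏ (1 - t^i) / (1 - q t^i)` are at most `q ^ n`

`T q j n` is the coefficient of `t ^ n` in `∏ i ≥ j, (1 - t^i) / (1 - q t^i)` and `E q j n` the one in
`(1 - (1 - t^(j-1)) ∏ i ≥ j, ...) / (1 - q t)`, for `2 ≤ j`.
-/

set_option autoImplicit false

namespace CfsgLib.ClassNumber.Series

variable (q : ℤ)

def T (j n : ℕ) : ℤ :=
  if n = 0 then 1
  else if _h : j = 0 ∨ n < j then 0
  else T (j + 1) n + q * T j (n - j) - T (j + 1) (n - j)
termination_by (n, n + 1 - j)
decreasing_by all_goals simp_wf; all_goals omega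

def E (j n : ℕ) : ℤ :=
  if _h : n + 1 ≤ j ∨ j < 2 then (if n + 1 = j then 1 else 0)
  else q * E j (n - j) + E (j + 1) n - E (j + 1) (n - (j - 1))
termination_by (n, n + 1 - j)
decreasing_by all_goals simp_wf; all_goals omega

theorem T_zero (j : ℕ) : T q j 0 = 1 := by rw [T, if_pos rfl]

theorem T_lt {j n : ℕ} (h0 : n ≠ 0) (h : n < j) : T q j n = 0 := by
  rw [T, if_neg h0, dif_pos (Or.inr h)]

theorem T_step {j n : ℕ} (hj : j ≠ 0) (h : j ≤ n) :
    T q j n = T q (j + 1) n + q * T q j (n - j) - T q (j + 1) (n - j) := by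
  rw [T, if_neg (by omega), dif_neg (by omega)]

theorem E_lt {j n : ℕ} (h : n + 1 < j) : E q j n = 0 := by
  rw [E, dif_pos (Or.inl h.le), if_neg h.ne]

theorem E_eq {j n : ℕ} (h : n + 1 = j) : E q j n = 1 := by
  rw [E, dif_pos (Or.inl h.le), if_pos h]

theorem E_step {j n : ℕ} (hj : 2 ≤ j) (h : j ≤ n) :
    E q j n = q * E q j (n - j) + E q (j + 1) n - E q (j + 1) (n - (j - 1)) := by
  rw [E, dif_neg (by omega)]

theorem H_eq : ∀ (n j : ℕ), 2 ≤ j →
    E q j n - (if n = 0 then 0 else q * E q j (n - 1)) =
      (if n = 0 then 1 else 0) - T q j n + (if j - 1 ≤ n then T q j (n - (j - 1)) else 0) := by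
  intro n
  induction n using Nat.strong_induction_on with
  | _ n ih =>
    intro j
    induction hk : n + 2 - j using Nat.strong_induction_on generalizing j with
    | _ k ihj =>
      intro hj
      rcases Nat.eq_zero_or_pos n with rfl | hn
      · rw [if_pos rfl, if_pos rfl, if_neg (by omega), E_lt q (by omega), T_zero]
        ring
      rw [if_neg hn.ne', if_neg hn.ne']
      rcases lt_trichotomy (n + 1) j with h | h | h
      · rw [E_lt q h, E_lt q (by omega), T_lt q hn.ne' (by omega), if_neg (by omega)]
        ring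
      · rw [E_eq q h, E_lt q (by omega), T_lt q hn.ne' (by omega), if_pos (by omega),
          show n - (j - 1) = 0 by omega, T_zero]
        ring
      have hjn : j ≤ n := by omega
      have h1 := ihj (n + 2 - (j + 1)) (by omega) (j + 1) rfl (by omega)
      rw [if_neg hn.ne', if_neg hn.ne', show j + 1 - 1 = j from rfl, if_pos hjn] at h1
      rw [if_pos (by omega : j - 1 ≤ n)]
      rcases eq_or_lt_of_le hjn with rfl | hlt
      · rw [E_step q hj le_rfl, Nat.sub_self, E_lt q (by omega : 0 + 1 < j), E_eq q (by omega : j - 1 + 1 = j),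
          E_eq q (by omega : j + 1 = j + 1), show j - (j - 1) = 1 by omega, E_lt q (by omega : 1 + 1 < j + 1),
          T_step q (by omega) le_rfl, Nat.sub_self, T_zero, T_zero, T_lt q (by omega) (Nat.lt_succ_self j),
          T_lt q one_ne_zero (by omega : 1 < j)]
        ring
      have h2 := ih (n - j) (by omega) j hj
      rw [if_neg (by omega), if_neg (by omega)] at h2
      have h3 := ih (n - (j - 1)) (by omega) (j + 1) (by omega)
      rw [if_neg (by omega), if_neg (by omega), show j + 1 - 1 = j from rfl] at h3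
      rw [E_step q hj hjn, E_step q hj (by omega : j ≤ n - 1), T_step q (by omega) hjn,
        show n - 1 - j = n - j - 1 by omega, show n - 1 - (j - 1) = n - (j - 1) - 1 by omega]
      by_cases hx : j ≤ n - (j - 1)
      · rw [if_pos hx] at h3
        rw [if_pos (by omega : j - 1 ≤ n - j), show n - j - (j - 1) = n - (j - 1) - j by omega] at h2
        rw [T_step q (by omega) hx]
        linear_combination q * h2 + h1 - h3
      · rw [if_neg hx, T_lt q (by omega) (by omega : n - (j - 1) < j + 1)] at h3
        rw [T_lt q (by omega) (by omega : n - (j - 1) < j)]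
        by_cases hy : j - 1 ≤ n - j
        · omega
        · rw [if_neg hy] at h2
          linear_combination q * h2 + h1 - h3

theorem T_one_add_E (n : ℕ) : T q 1 n + E q 2 n = q ^ n := by
  induction n with
  | zero => rw [T_zero, E_lt q (by omega), pow_zero, add_zero]
  | succ n ih =>
    have h := H_eq q (n + 1) 2 le_rfl
    rw [if_neg (by omega), if_neg (by omega), if_pos (by omega), Nat.add_sub_cancel] at h
    rw [T_step q one_ne_zero (by omega), Nat.add_sub_cancel, pow_succ]
    linear_combination h + q * ih

theorem E_invariant (hq : 2 ≤ q) : ∀ (n j : ℕ), 2 ≤ j →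
    0 ≤ E q j n ∧ E q (j + 1) (n + 1) ≤ E q j n ∧ E q (j + 1) n ≤ E q j n := by
  intro n
  induction n using Nat.strong_induction_on with
  | _ n ih =>
    intro j
    induction hk : n + 2 - j using Nat.strong_induction_on generalizing j with
    | _ k ihj =>
      intro hj
      rcases lt_trichotomy (n + 1) j with h | h | h
      · rw [E_lt q h, E_lt q (by omega : n + 1 + 1 < j + 1), E_lt q (by omega : n + 1 < j + 1)]
        exact ⟨le_rfl, le_rfl, le_rfl⟩
      · rw [E_eq q h, E_eq q (by omega : n + 1 + 1 = j + 1), E_lt q (by omega : n + 1 < j + 1)]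
        exact ⟨zero_le_one, le_rfl, zero_le_one⟩
      have hjn : j ≤ n := by omega
      obtain ⟨hP', hS', -⟩ := ihj (n + 2 - (j + 1)) (by omega) (j + 1) rfl (by omega)
      obtain ⟨hP2, hS2, -⟩ := ih (n - j) (by omega) j hj
      rw [show n - j + 1 = n - (j - 1) by omega] at hS2
      have hge : (q - 1) * E q j (n - j) + E q (j + 1) n ≤ E q j n := by
        rw [E_step q hj hjn]
        linarith
      have h0 : 0 ≤ (q - 1) * E q j (n - j) := mul_nonneg (by linarith) hP2
      refine ⟨by linarith, ?_, by linarith⟩
      rw [E_step q (by omega : 2 ≤ j + 1) (by omega : j + 1 ≤ n + 1), Nat.add_sub_add_right,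
        show n + 1 - (j + 1 - 1) = n - (j - 1) by omega, E_step q hj hjn]
      by_cases hy : j ≤ n - j
      · obtain ⟨hP3, hS3, hM3⟩ := ih (n - j - j) (by omega) j hj
        have e1 : (q - 1) * E q j (n - j - j) ≤ E q j (n - j) - E q (j + 1) (n - j) := by
          rw [E_step q hj hy, show n - j - (j - 1) = n - j - j + 1 by omega]
          linarith
        have e2 : E q (j + 1) (n - (j - 1)) - E q (j + 1 + 1) (n - (j - 1)) ≤ q * E q (j + 1) (n - j - j) := by
          rw [E_step q (by omega : 2 ≤ j + 1) (by omega : j + 1 ≤ n - (j - 1)),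
            show n - (j - 1) - (j + 1) = n - j - j by omega]
          have := (ih (n - (j - 1) - j) (by omega) (j + 1 + 1) (by omega)).1
          rw [show n - (j - 1) - (j + 1 - 1) = n - (j - 1) - j by omega]
          linarith
        have e3 : q * ((q - 1) * E q j (n - j - j)) ≤ q * (E q j (n - j) - E q (j + 1) (n - j)) :=
          mul_le_mul_of_nonneg_left e1 (by linarith)
        have e4 : q * E q (j + 1) (n - j - j) ≤ q * E q j (n - j - j) :=
          mul_le_mul_of_nonneg_left hM3 (by linarith)
        have e5 : q * E q j (n - j - j) ≤ q * ((q - 1) * E q j (n - j - j)) :=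
          mul_le_mul_of_nonneg_left (le_mul_of_one_le_left hP3 (by linarith)) (by linarith)
        linarith
      · rw [E_lt q (by omega : n - (j - 1) + 1 < j + 1 + 1), E_lt q (by omega : n - j + 1 < j + 1)]
        rcases eq_or_lt_of_le (by omega : n - j + 1 ≤ j) with hy' | hy'
        · rw [E_eq q hy', E_eq q (by omega : n - (j - 1) + 1 = j + 1)]
          linarith
        · rw [E_lt q hy', E_lt q (by omega : n - (j - 1) + 1 < j + 1)]
          linarith

theorem T_le_pow (hq : 2 ≤ q) (n : ℕ) : T q 1 n ≤ q ^ n := by
  have := T_one_add_E q n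
  have := (E_invariant q hq n 2 le_rfl).1
  linarith

/-- The number of monic polynomials of degree `a` with non-zero constant term. -/
def c (a : ℕ) : ℤ := if a = 0 then 1 else (q - 1) * q ^ (a - 1)

theorem sum_c_T (j : ℕ) (hj : j ≠ 0) : ∀ n : ℕ,
    ∑ a ∈ Finset.range (n / j + 1), c q a * T q (j + 1) (n - j * a) = T q j n := by
  intro n
  induction n using Nat.strong_induction_on with
  | _ n ih =>
    rw [Finset.sum_range_succ']
    by_cases h : n < j
    · rw [Nat.div_eq_of_lt h]
      rcases Nat.eq_zero_or_pos n with rfl | hn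
      · simp [c, T_zero]
      · simp [c, T_lt q hn.ne' h, T_lt q hn.ne' (by omega : n < j + 1)]
    · have hd : n / j = (n - j) / j + 1 := by
        rw [Nat.div_eq_sub_div (by omega) (by omega)]
      have h1 := ih (n - j) (by omega)
      rw [hd, Finset.sum_range_succ']
      rw [Finset.sum_range_succ'] at h1
      rw [T_step q hj (by omega)]
      have e : ∀ a, c q (a + 1 + 1) * T q (j + 1) (n - j * (a + 1 + 1)) =
          q * (c q (a + 1) * T q (j + 1) (n - j - j * (a + 1))) := fun a => by
        rw [show n - j * (a + 1 + 1) = n - j - j * (a + 1) by rw [mul_add, Nat.sub_sub]; congr 1; ring]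
        simp only [c, if_neg (Nat.succ_ne_zero _), Nat.add_sub_cancel, pow_succ]
        ring
      simp only [e, ← Finset.mul_sum]
      simp only [c, if_pos, if_neg (Nat.succ_ne_zero _), one_mul, mul_zero, mul_one, Nat.sub_zero,
        zero_add, Nat.sub_self, pow_zero] at h1 ⊢
      linear_combination q * h1

end CfsgLib.ClassNumber.Series
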