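import Cfsg.Agent.Lib.ClassCount.Linear.Series

/-!
# Counting tuples of monic polynomials with non-zero constant term

`Tup F n` is the set of `(g₁, …, gₙ)` with `∑ i • deg gᵢ = n`: it parametrises the conjugacy classes of `GL n F`.
-/

set_option autoImplicit false

open Polynomial

namespace CfsgLib.ClassNumber

open Series

/-- Vectors of multiplicities of the parts `j, j + 1, …, j + l - 1` of a partition of `n`. -/
def sol (l j n : ℕ) : Finset (Fin l → ℕ) :=
  (Fintype.piFinset fun _ => Finset.range (n + 1)).filter fun m => ∑ i : Fin l, (j + i) * m i = n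

theorem mem_sol {l j n : ℕ} (hj : j ≠ 0) (m : Fin l → ℕ) :
    m ∈ sol l j n ↔ ∑ i : Fin l, (j + i) * m i = n := by
  refine ⟨fun h => (Finset.mem_filter.1 h).2, fun h => Finset.mem_filter.2 ⟨?_, h⟩⟩
  refine Fintype.mem_piFinset.2 fun i => Finset.mem_range.2 (Nat.lt_succ_of_le ?_)
  calc m i ≤ (j + i) * m i := Nat.le_mul_of_pos_left _ (by omega)
    _ ≤ n := h ▸ Finset.single_le_sum (f := fun i : Fin l => (j + i) * m i) (fun _ _ => Nat.zero_le _) (Finset.mem_univ i)

theorem sum_prod_eq (q : ℤ) : ∀ (l j n : ℕ), j ≠ 0 → n < j + l →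
    ∑ m ∈ sol l j n, ∏ i, c q (m i) = T q j n
  | 0, j, n, hj, h => by
    rcases Nat.eq_zero_or_pos n with rfl | hn
    · rw [show sol 0 j 0 = {default} by ext m; simp [mem_sol hj, Subsingleton.elim m default], Finset.sum_singleton,
        T_zero]
      simp
    · rw [show sol 0 j n = ∅ by ext m; simp [mem_sol hj]; omega, Finset.sum_empty, T_lt q hn.ne' (by omega)]
  | l + 1, j, n, hj, h => by
    have key : ∑ m ∈ sol (l + 1) j n, ∏ i, c q (m i) =
        ∑ p ∈ (Finset.range (n / j + 1)).sigma (fun a => sol l (j + 1) (n - j * a)), c q p.1 * ∏ i, c q (p.2 i) := by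
      refine Finset.sum_nbij' (fun m => (⟨m 0, Fin.tail m⟩ : (_ : ℕ) × (Fin l → ℕ)))
        (fun p => Fin.cons p.1 p.2) ?_ ?_ ?_ ?_ ?_
      · intro m hm
        rw [mem_sol hj, Fin.sum_univ_succ] at hm
        simp only [Fin.val_zero, add_zero, Fin.val_succ] at hm
        refine Finset.mem_sigma.2 ⟨Finset.mem_range.2 (Nat.lt_succ_of_le ?_), (mem_sol (by omega) _).2 ?_⟩
        · show m 0 ≤ n / j
          rw [Nat.le_div_iff_mul_le (by omega), mul_comm]
          omega
        · dsimp only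
          simp only [Fin.tail, add_assoc, add_comm 1]
          omega
      · rintro ⟨a, m⟩ hm
        obtain ⟨ha, hm⟩ := Finset.mem_sigma.1 hm
        rw [mem_sol (by omega)] at hm
        simp only [add_assoc, add_comm 1] at hm
        have : j * a ≤ n := by
          have := Nat.lt_succ_iff.1 (Finset.mem_range.1 ha)
          rw [Nat.le_div_iff_mul_le (by omega), mul_comm] at this
          exact this
        refine (mem_sol hj _).2 ?_
        rw [Fin.sum_univ_succ]
        simp only [Fin.cons_zero, Fin.cons_succ, Fin.val_zero, add_zero, Fin.val_succ]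
        omega
      · exact fun m _ => Fin.cons_self_tail m
      · rintro ⟨a, m⟩ _
        simp
      · intro m _
        rw [Fin.prod_univ_succ]
        rfl
    rw [key, Finset.sum_sigma, ← sum_c_T q j hj n]
    refine Finset.sum_congr rfl fun a _ => ?_
    show ∑ m ∈ sol l (j + 1) (n - j * a), c q a * ∏ i, c q (m i) = _
    rcases Nat.eq_zero_or_pos a with rfl | ha
    · rw [← Finset.mul_sum, sum_prod_eq q l (j + 1) _ (by omega) (by omega)]
    · have : 0 < j * a := Nat.mul_pos (by omega) ha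
      rw [← Finset.mul_sum, sum_prod_eq q l (j + 1) _ (by omega) (by omega)]

variable (F : Type*) [Field F]

/-- Monic polynomials of degree `a` with non-zero constant term. -/
abbrev Mon (a : ℕ) : Type _ := {g : F[X] // g.Monic ∧ g.natDegree = a ∧ g.coeff 0 ≠ 0}

noncomputable def monEquiv (b : ℕ) : Mon F (b + 1) ≃ {v : Fin (b + 1) → F // v 0 ≠ 0} :=
  (show Mon F (b + 1) ≃ {g : {g : F[X] // g.Monic ∧ g.natDegree = b + 1} // g.1.coeff 0 ≠ 0} from
    { toFun := fun g => ⟨⟨g.1, g.2.1, g.2.2.1⟩, g.2.2.2⟩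
      invFun := fun g => ⟨g.1.1, g.1.2.1, g.1.2.2, g.2⟩
      left_inv := fun _ => rfl
      right_inv := fun _ => rfl }).trans
    (Equiv.subtypeEquiv (p := fun g : {g : F[X] // g.Monic ∧ g.natDegree = b + 1} => g.1.coeff 0 ≠ 0)
      (q := fun v : Fin (b + 1) → F => v 0 ≠ 0)
      ((monicEquivDegreeLT (b + 1)).trans (degreeLTEquiv F (b + 1)).toEquiv) fun g => by
        show g.1.coeff 0 ≠ 0 ↔ g.1.eraseLead.coeff ((0 : Fin (b + 1)) : ℕ) ≠ 0
        rw [eraseLead_coeff_of_ne]
        · rfl
        · simp [g.2.2])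

instance finite_mon [Finite F] (a : ℕ) : Finite (Mon F a) := by
  cases a with
  | zero =>
    have : Subsingleton (Mon F 0) := ⟨fun g h => Subtype.ext (by
      rw [(g.2.1.natDegree_eq_zero).1 g.2.2.1, (h.2.1.natDegree_eq_zero).1 h.2.2.1])⟩
    infer_instance
  | succ b => exact Finite.of_equiv _ (monEquiv F b).symm

theorem card_mon [Fintype F] (a : ℕ) : (Nat.card (Mon F a) : ℤ) = c (Fintype.card F) a := by
  cases a with
  | zero =>
    have : Unique (Mon F 0) :=
      { default := ⟨1, monic_one, natDegree_one, by simp⟩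
        uniq := fun g => Subtype.ext ((g.2.1.natDegree_eq_zero).1 g.2.2.1) }
    rw [Nat.card_unique]
    simp [c]
  | succ b =>
    have e : {v : Fin (b + 1) → F // v 0 ≠ 0} ≃ {x : F // x ≠ 0} × (Fin b → F) :=
      { toFun := fun v => (⟨v.1 0, v.2⟩, Fin.tail v.1)
        invFun := fun p => ⟨Fin.cons p.1.1 p.2, by simpa using p.1.2⟩
        left_inv := fun v => Subtype.ext (Fin.cons_self_tail _)
        right_inv := fun p => by simp }
    classical
    rw [Nat.card_congr ((monEquiv F b).trans e), Nat.card_prod, Nat.card_fun, Nat.card_fin,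
      Nat.card_eq_fintype_card, Nat.card_eq_fintype_card, Fintype.card_subtype_compl, Fintype.card_subtype_eq, c,
      if_neg (Nat.succ_ne_zero b), Nat.add_sub_cancel]
    push_cast [Fintype.card_pos (α := F), Nat.one_le_iff_ne_zero, Fintype.card_ne_zero]
    ring

/-- Tuples `(g₁, …, gₙ)` of monic polynomials with non-zero constant terms and `∑ i • deg gᵢ = n`. -/
abbrev Tup (n : ℕ) : Type _ :=
  {g : Fin n → F[X] // (∀ i, (g i).Monic ∧ (g i).coeff 0 ≠ 0) ∧ ∑ i : Fin n, (1 + i) * (g i).natDegree = n}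

variable {F}

/-- The degree vector of a tuple. -/
noncomputable def Tup.deg {n : ℕ} (t : Tup F n) : Fin n → ℕ := fun i => (t.1 i).natDegree

variable (F)

noncomputable def tupEquiv (n : ℕ) : Tup F n ≃ Σ m : ↥(sol n 1 n), ∀ i, Mon F (m.1 i) :=
  (Equiv.sigmaFiberEquiv fun t : Tup F n => (⟨t.deg, (mem_sol one_ne_zero _).2 t.2.2⟩ : ↥(sol n 1 n))).symm.trans
    (Equiv.sigmaCongrRight fun m =>
      { toFun := fun t i => ⟨t.1.1 i, (t.1.2.1 i).1, congrFun (congrArg Subtype.val t.2) i, (t.1.2.1 i).2⟩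
        invFun := fun g => ⟨⟨fun i => (g i).1, fun i => ⟨(g i).2.1, (g i).2.2.2⟩, by
            simpa [fun i => (g i).2.2.1] using (mem_sol one_ne_zero _).1 m.2⟩,
          Subtype.ext (funext fun i => (g i).2.2.1)⟩
        left_inv := fun _ => rfl
        right_inv := fun _ => rfl })

instance finite_tup [Finite F] (n : ℕ) : Finite (Tup F n) := Finite.of_equiv _ (tupEquiv F n).symm

theorem card_tup [Fintype F] (n : ℕ) : (Nat.card (Tup F n) : ℤ) = T (Fintype.card F) 1 n := by
  rw [Nat.card_congr (tupEquiv F n), Nat.card_sigma, ← sum_prod_eq _ n 1 n one_ne_zero (by omega),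
    ← Finset.sum_coe_sort (sol n 1 n)]
  push_cast [Nat.card_pi, card_mon]
  rfl

theorem card_tup_le [Fintype F] (n : ℕ) : Nat.card (Tup F n) ≤ Fintype.card F ^ n := by
  have h1 := T_le_pow (Fintype.card F : ℤ) (by exact_mod_cast Fintype.one_lt_card) n
  rw [← card_tup F n] at h1
  exact_mod_cast h1

theorem card_tup_small [Fintype F] :
    Nat.card (Tup F 1) + 1 ≤ Fintype.card F ∧ Nat.card (Tup F 2) + 1 ≤ Fintype.card F ^ 2 ∧
      Nat.card (Tup F 3) + Fintype.card F ≤ Fintype.card F ^ 3 := by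
  obtain ⟨q, hq⟩ : ∃ q : ℤ, q = (Fintype.card F : ℤ) := ⟨_, rfl⟩
  have t21 : T q 2 1 = 0 := T_lt q one_ne_zero (by omega)
  have t31 : T q 3 1 = 0 := T_lt q one_ne_zero (by omega)
  have t32 : T q 3 2 = 0 := T_lt q two_ne_zero (by omega)
  have t43 : T q 4 3 = 0 := T_lt q (by omega) (by omega)
  have t11 : T q 1 1 = q - 1 := by
    rw [T_step q one_ne_zero le_rfl, Nat.sub_self, T_zero, T_zero, t21]
    ring
  have t22 : T q 2 2 = q - 1 := by
    rw [T_step q two_ne_zero le_rfl, Nat.sub_self, T_zero, T_zero, t32]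
    ring
  have t33 : T q 3 3 = q - 1 := by
    rw [T_step q (by omega) le_rfl, Nat.sub_self, T_zero, T_zero, t43]
    ring
  have t12 : T q 1 2 = q ^ 2 - 1 := by
    rw [T_step q one_ne_zero (by omega), show (2 : ℕ) - 1 = 1 from rfl, t22, t11, t21]
    ring
  have t23 : T q 2 3 = q - 1 := by
    rw [T_step q two_ne_zero (by omega), show (3 : ℕ) - 2 = 1 from rfl, t33, t21, t31]
    ring
  have t13 : T q 1 3 = q ^ 3 - q := by
    rw [T_step q one_ne_zero (by omega), show (3 : ℕ) - 1 = 2 from rfl, t23, t12, t22]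
    ring
  refine ⟨?_, ?_, ?_⟩ <;> zify
  · rw [card_tup, ← hq, t11]; linarith
  · rw [card_tup, ← hq, t12]; linarith
  · rw [card_tup, ← hq, t13]; linarith

end CfsgLib.ClassNumber
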