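import Cfsg.Agent.Lib.ClassCount.Linear.Tuples

/-!
# Tuples with prescribed product of constant terms, weighted by the number of classes they split into
-/

set_option autoImplicit false

open Polynomial

namespace CfsgLib.ClassNumber

/-- The gcd of `q - 1` and the parts that occur. -/
def gg (q : ℕ) {n : ℕ} (m : Fin n → ℕ) : ℕ :=
  Nat.gcd (q - 1) (Finset.univ.gcd fun i : Fin n => if m i = 0 then 0 else 1 + (i : ℕ))

theorem gg_dvd_part (q : ℕ) {n : ℕ} (m : Fin n → ℕ) (i : Fin n) (h : m i ≠ 0) : gg q m ∣ 1 + (i : ℕ) := by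
  refine (Nat.gcd_dvd_right _ _).trans ?_
  have := Finset.gcd_dvd (f := fun i : Fin n => if m i = 0 then 0 else 1 + (i : ℕ)) (Finset.mem_univ i)
  rwa [if_neg h] at this

theorem gg_pos {q : ℕ} (hq : 2 ≤ q) {n : ℕ} (m : Fin n → ℕ) : 0 < gg q m :=
  Nat.gcd_pos_of_pos_left _ (by omega)

variable {F : Type*} [Field F] [Fintype F]

/-- The product of the constant terms, each to the power of its part. -/
def Tup.cpro {n : ℕ} (t : Tup F n) : F := ∏ i : Fin n, (t.1 i).coeff 0 ^ (1 + (i : ℕ))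

variable (F)

/-- Tuples with product of constants `δ`, weighted by `gg`. -/
noncomputable def W (n : ℕ) (δ : F) : ℕ :=
  Nat.card (Σ t : {t : Tup F n // t.cpro = δ}, Fin (gg (Fintype.card F) t.1.deg))

/-- The bound for `(q - 1) * W n δ`. -/
noncomputable def U (n : ℕ) : ℕ :=
  Nat.card (Tup F n) +
    ∑ e ∈ (Nat.gcd n (Fintype.card F - 1)).divisors, (e ^ 2 - 1) * Nat.card (Tup F (n / e))

variable {F}

theorem card_fibre_le {n : ℕ} (m : Fin n → ℕ) (δ : F) :
    (Fintype.card F - 1) * Nat.card {b : ∀ i, Mon F (m i) // ∏ i : Fin n, (b i).1.coeff 0 ^ (1 + (i : ℕ)) = δ} ≤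
      gg (Fintype.card F) m * ∏ i, Nat.card (Mon F (m i)) := by
  classical
  let φ : (Fin n → Fˣ) →* Fˣ :=
    { toFun := fun x => ∏ i : Fin n, (if m i = 0 then 1 else x i) ^ (1 + (i : ℕ))
      map_one' := by simp
      map_mul' := fun x y => by
        rw [← Finset.prod_mul_distrib]
        refine Finset.prod_congr rfl fun i _ => ?_
        split_ifs <;> simp [mul_pow] }
  have hclose : ∀ a b : ℕ, (∀ x : Fˣ, x ^ a ∈ φ.range) → (∀ x : Fˣ, x ^ b ∈ φ.range) →
      ∀ x : Fˣ, x ^ Nat.gcd a b ∈ φ.range := fun a b ha hb x => by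
    rw [← zpow_natCast, Nat.gcd_eq_gcd_ab, zpow_add, zpow_mul, zpow_mul, zpow_natCast, zpow_natCast]
    exact mul_mem (zpow_mem (ha x) _) (zpow_mem (hb x) _)
  have hG : ∀ x : Fˣ, x ^ gg (Fintype.card F) m ∈ φ.range := by
    refine hclose _ _ (fun x => ?_) (Finset.univ.induction_on ?_ ?_)
    · rw [← Fintype.card_units, pow_card_eq_one]
      exact one_mem _
    · intro x
      simp
    · intro i s _ ih x
      rw [Finset.gcd_insert]
      refine hclose _ _ (fun x => ?_) ih x
      by_cases hi : m i = 0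
      · simp [hi]
      · rw [if_neg hi]
        refine ⟨Pi.mulSingle i x, ?_⟩
        show ∏ j : Fin n, (if m j = 0 then 1 else Pi.mulSingle (M := fun _ => Fˣ) i x j) ^ (1 + (j : ℕ)) = _
        rw [Finset.prod_eq_single i (fun j _ hj => by simp [hj]) (by simp), if_neg hi, Pi.mulSingle_eq_same]
  have hR : Fintype.card F - 1 ≤ gg (Fintype.card F) m * Nat.card φ.range := by
    have h1 : Nat.card (powMonoidHom (gg (Fintype.card F) m) : Fˣ →* Fˣ).range ≤ Nat.card φ.range :=
      Subgroup.card_le_of_le (by rintro _ ⟨x, rfl⟩; exact hG x)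
    rw [IsCyclic.card_powMonoidHom_range, Nat.card_units, Nat.card_eq_fintype_card] at h1
    have hg : gg (Fintype.card F) m ∣ Fintype.card F - 1 := Nat.gcd_dvd_left _ _
    rw [Nat.gcd_eq_right hg] at h1
    calc Fintype.card F - 1 = gg (Fintype.card F) m * ((Fintype.card F - 1) / gg (Fintype.card F) m) :=
          (Nat.mul_div_cancel' hg).symm
      _ ≤ _ := Nat.mul_le_mul_left _ h1
  choose s hs using fun r : φ.range => MonoidHom.mem_range.1 r.2
  let sc : ∀ i, Fˣ → Mon F (m i) → Mon F (m i) := fun i x g =>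
    if hi : m i = 0 then g else
    ⟨g.1 + C ((((x : F) - 1) * g.1.coeff 0)), g.2.1.add_of_left (degree_C_le.trans_lt (by
        rw [degree_eq_natDegree g.2.1.ne_zero, g.2.2.1]; exact_mod_cast Nat.pos_of_ne_zero hi)),
      by rw [natDegree_add_C, g.2.2.1],
      by rw [coeff_add, coeff_C_zero, sub_mul, one_mul, add_sub_cancel]; exact mul_ne_zero x.ne_zero g.2.2.2⟩
  have hsc : ∀ i x g, (sc i x g).1.coeff 0 = ((if m i = 0 then 1 else x : Fˣ) : F) * g.1.coeff 0 := fun i x g => by
    by_cases hi : m i = 0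
    · simp only [sc, dif_pos hi, if_pos hi, Units.val_one, one_mul]
    · simp only [sc, dif_neg hi, if_neg hi]
      rw [coeff_add, coeff_C_zero, sub_mul, one_mul, add_sub_cancel]
  let f : {b : ∀ i, Mon F (m i) // ∏ i : Fin n, (b i).1.coeff 0 ^ (1 + (i : ℕ)) = δ} × φ.range →
      ∀ i, Mon F (m i) := fun p i => sc i (s p.2 i) (p.1.1 i)
  have hprod : ∀ p, ∏ i : Fin n, (f p i).1.coeff 0 ^ (1 + (i : ℕ)) = ((p.2 : Fˣ) : F) * δ := fun p => by
    simp only [f, hsc, mul_pow, Finset.prod_mul_distrib, p.1.2]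
    rw [← hs p.2]
    simp only [φ, MonoidHom.coe_mk, OneHom.coe_mk, Units.coe_prod, Units.val_pow_eq_pow_val]
  have hinj : Function.Injective f := fun p p' h => by
    have h2 : p.2 = p'.2 := by
      have := hprod p
      rw [h, hprod p'] at this
      have hδ : δ ≠ 0 := by
        rw [← p.1.2]
        exact Finset.prod_ne_zero_iff.2 fun i _ => pow_ne_zero _ (p.1.1 i).2.2.2
      exact Subtype.ext (Units.ext (mul_right_cancel₀ hδ this).symm)
    refine Prod.ext (Subtype.ext (funext fun i => Subtype.ext ?_)) h2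
    have h3 := congrArg Subtype.val (congrFun h i)
    simp only [f, sc, h2] at h3
    by_cases hi : m i = 0
    · rwa [dif_pos hi, dif_pos hi] at h3
    · rw [dif_neg hi, dif_neg hi] at h3
      have h4 := congrArg (fun g : F[X] => g.coeff 0) h3
      simp only [coeff_add, coeff_C_zero, sub_mul, one_mul, add_sub_cancel] at h4
      have h5 : (p.1.1 i).1 + C ((((s p'.2 i : Fˣ) : F) - 1) * (p.1.1 i).1.coeff 0) =
          (p'.1.1 i).1 + C ((((s p'.2 i : Fˣ) : F) - 1) * (p'.1.1 i).1.coeff 0) := h3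
      rw [mul_left_cancel₀ (s p'.2 i).ne_zero h4] at h5
      exact add_right_cancel h5
  have h5 := Nat.card_le_card_of_injective f hinj
  rw [Nat.card_prod, Nat.card_pi] at h5
  calc _ ≤ gg (Fintype.card F) m * Nat.card φ.range *
        Nat.card {b : ∀ i, Mon F (m i) // ∏ i : Fin n, (b i).1.coeff 0 ^ (1 + (i : ℕ)) = δ} := Nat.mul_le_mul_right _ hR
    _ ≤ _ := by rw [mul_assoc, mul_comm (Nat.card φ.range)]; exact Nat.mul_le_mul_left _ h5

theorem card_gg_eq_le (n e : ℕ) (he : 0 < e) :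
    Nat.card {t : Tup F n // gg (Fintype.card F) t.deg = e} ≤ Nat.card (Tup F (n / e)) := by
  classical
  let emb : Fin (n / e) → Fin n := fun k => ⟨e * (1 + k) - 1, by
    have : e * (1 + (k : ℕ)) ≤ e * (n / e) := Nat.mul_le_mul_left _ (by omega)
    have := Nat.mul_div_le n e
    have : 0 < e * (1 + (k : ℕ)) := Nat.mul_pos he (by omega)
    omega⟩
  have hemb : ∀ k, 1 + (emb k : ℕ) = e * (1 + (k : ℕ)) := fun k => by
    have : 0 < e * (1 + (k : ℕ)) := Nat.mul_pos he (by omega)
    simp only [emb]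
    omega
  have hinj : Function.Injective emb := fun a b h => by
    have := hemb a
    rw [h, hemb b] at this
    exact Fin.ext (by have := Nat.eq_of_mul_eq_mul_left he this; omega)
  have hoff : ∀ t : {t : Tup F n // gg (Fintype.card F) t.deg = e}, ∀ i, i ∉ Set.range emb →
      (t.1.1 i).natDegree = 0 := fun t i hi => by
    by_contra h
    obtain ⟨k, hk⟩ := t.2 ▸ gg_dvd_part (Fintype.card F) t.1.deg i h
    have hk0 : 1 ≤ k := by rcases Nat.eq_zero_or_pos k with rfl | h0 <;> omega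
    refine hi ⟨⟨k - 1, ?_⟩, Fin.ext ?_⟩
    · have : k ≤ n / e := by
        rw [Nat.le_div_iff_mul_le he, mul_comm]
        omega
      omega
    · show e * (1 + (k - 1)) - 1 = (i : ℕ)
      rw [show 1 + (k - 1) = k by omega]
      omega
  let g : {t : Tup F n // gg (Fintype.card F) t.deg = e} → Tup F (n / e) := fun t =>
    ⟨fun k => t.1.1 (emb k), fun k => t.1.2.1 _, by
      have h : ∑ i : Fin n, (1 + (i : ℕ)) * (t.1.1 i).natDegree =
          ∑ k : Fin (n / e), e * ((1 + (k : ℕ)) * (t.1.1 (emb k)).natDegree) :=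
        (Fintype.sum_of_injective emb hinj _ _ (fun i hi => by rw [hoff t i hi, mul_zero])
          (fun k => by rw [hemb, mul_assoc])).symm
      rw [← Finset.mul_sum, t.1.2.2] at h
      exact (Nat.div_eq_of_eq_mul_right he h).symm⟩
  refine Nat.card_le_card_of_injective g fun t t' h => Subtype.ext (Subtype.ext (funext fun i => ?_))
  by_cases hi : i ∈ Set.range emb
  · obtain ⟨k, rfl⟩ := hi
    exact congrFun (congrArg Subtype.val h) k
  · rw [((t.1.2.1 i).1.natDegree_eq_zero).1 (hoff t i hi), ((t'.1.2.1 i).1.natDegree_eq_zero).1 (hoff t' i hi)]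

theorem W_le (n : ℕ) (δ : F) : (Fintype.card F - 1) * W F n δ ≤ U F n := by
  classical
  have : Fintype (Tup F n) := Fintype.ofFinite _
  set q := Fintype.card F
  have hq : 2 ≤ q := Fintype.one_lt_card
  let P : (Fin n → ℕ) → ℕ := fun m => ∏ i, Nat.card (Mon F (m i))
  have hfib : ∀ m : ↥(sol n 1 n), ∀ p : Tup F n → Prop,
      Nat.card {t : Tup F n // p t ∧ t.deg = m.1} =
        Nat.card {b : ∀ i, Mon F (m.1 i) // p ((tupEquiv F n).symm ⟨m, b⟩)} := fun m p =>
    Nat.card_congr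
      { toFun := fun t => ⟨fun i => ⟨t.1.1 i, (t.1.2.1 i).1, congrFun t.2.2 i, (t.1.2.1 i).2⟩, t.2.1⟩
        invFun := fun b => ⟨(tupEquiv F n).symm ⟨m, b.1⟩, b.2, funext fun i => (b.1 i).2.2.1⟩
        left_inv := fun _ => rfl
        right_inv := fun _ => rfl }
  have hW : W F n δ = ∑ m : ↥(sol n 1 n),
      gg q m.1 * Nat.card {t : Tup F n // t.cpro = δ ∧ t.deg = m.1} := by
    rw [W, Nat.card_sigma]
    simp only [Nat.card_fin]
    rw [← Finset.sum_fiberwise (s := Finset.univ)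
      (g := fun t : {t : Tup F n // t.cpro = δ} => (⟨t.1.deg, (mem_sol one_ne_zero _).2 t.1.2.2⟩ : ↥(sol n 1 n)))]
    refine Finset.sum_congr rfl fun m _ => ?_
    rw [Finset.sum_congr rfl (g := fun _ => gg q m.1) fun t ht => by
      rw [← (Finset.mem_filter.1 ht).2], Finset.sum_const, smul_eq_mul, mul_comm]
    congr 1
    rw [← Fintype.card_subtype, ← Nat.card_eq_fintype_card]
    exact Nat.card_congr ((Equiv.subtypeEquivRight fun t => by simp [Subtype.ext_iff]).trans
      (Equiv.subtypeSubtypeEquivSubtypeInter (fun t : Tup F n => t.cpro = δ) (fun t => t.deg = m.1)))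
  have hA : (q - 1) * W F n δ ≤ ∑ m : ↥(sol n 1 n), gg q m.1 ^ 2 * P m.1 := by
    rw [hW, Finset.mul_sum]
    refine Finset.sum_le_sum fun m _ => ?_
    rw [hfib m fun t => t.cpro = δ, sq, mul_assoc, mul_left_comm]
    exact Nat.mul_le_mul_left _ (card_fibre_le m.1 δ)
  have hK : ∑ m : ↥(sol n 1 n), P m.1 = Nat.card (Tup F n) := by
    rw [Nat.card_congr (tupEquiv F n), Nat.card_sigma]
    exact Finset.sum_congr rfl fun m _ => (Nat.card_pi).symm
  have hsplit : ∑ m : ↥(sol n 1 n), gg q m.1 ^ 2 * P m.1 =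
      Nat.card (Tup F n) + ∑ m : ↥(sol n 1 n), (gg q m.1 ^ 2 - 1) * P m.1 := by
    rw [← hK, ← Finset.sum_add_distrib]
    refine Finset.sum_congr rfl fun m _ => ?_
    have : 1 ≤ gg q m.1 ^ 2 := Nat.one_le_pow _ _ (gg_pos hq _)
    rw [Nat.sub_mul, one_mul, Nat.add_sub_cancel' (Nat.le_mul_of_pos_left _ this)]
  rw [hsplit] at hA
  refine hA.trans (Nat.add_le_add_left ?_ _)
  rw [← Finset.sum_fiberwise_of_maps_to (g := fun m : ↥(sol n 1 n) => gg q m.1)
    (t := (Nat.gcd n (q - 1)).divisors)]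
  · refine Finset.sum_le_sum fun e he => ?_
    rw [Finset.sum_congr rfl (g := fun m => (e ^ 2 - 1) * P m.1) fun m hm => by
      rw [(Finset.mem_filter.1 hm).2], ← Finset.mul_sum]
    refine Nat.mul_le_mul_left _ ((le_of_eq ?_).trans (card_gg_eq_le n e (Nat.pos_of_mem_divisors he)))
    rw [Nat.card_congr ((tupEquiv F n).subtypeEquiv (p := fun t : Tup F n => gg q t.deg = e)
        (q := fun p => gg q p.1.1 = e) fun t => Iff.rfl),
      Nat.card_congr (Equiv.subtypeSigmaEquiv (fun m : ↥(sol n 1 n) => ∀ i, Mon F (m.1 i)) fun m => gg q m.1 = e),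
      Nat.card_sigma, ← Finset.sum_subtype (p := fun m : ↥(sol n 1 n) => gg q m.1 = e)
        (Finset.univ.filter fun m : ↥(sol n 1 n) => gg q m.1 = e) (fun m => by simp)
        (fun m => Nat.card (∀ i, Mon F (m.1 i)))]
    exact Finset.sum_congr rfl fun m _ => (Nat.card_pi).symm
  · intro m _
    refine Nat.mem_divisors.2 ⟨Nat.dvd_gcd ?_ (Nat.gcd_dvd_left _ _), Nat.gcd_ne_zero_right (by omega)⟩
    have hm := (mem_sol one_ne_zero _).1 m.2
    conv_rhs => rw [← hm]
    refine Finset.dvd_sum fun i _ => ?_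
    by_cases h : m.1 i = 0
    · simp [h]
    · exact (gg_dvd_part q m.1 i h).mul_right _

/-- Tuples invariant under scaling by `ζ`, weighted, are no more than those for `n / f`. -/
theorem card_invariant_le (n : ℕ) (δ : F) (ζ : F) (f : ℕ) (hf : 0 < f)
    (hord : ∀ k : ℕ, ζ ^ k = 1 → f ∣ k) :
    Nat.card (Σ t : {t : Tup F n // t.cpro = δ ∧ ∀ i, (t.1 i).scaleRoots ζ = t.1 i},
        Fin (gg (Fintype.card F) t.1.deg)) ≤ W F (n / f) δ := by
  classical
  have hexp : ∀ g : F[X], g.Monic → g.coeff 0 ≠ 0 → g.scaleRoots ζ = g → expand F f (contract f g) = g := by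
    intro g hg h0 hinv
    have hco : ∀ k, g.coeff k ≠ 0 → f ∣ g.natDegree - k := fun k hk => hord _ (by
      have h := congrArg (fun p : F[X] => p.coeff k) hinv
      simp only [coeff_scaleRoots] at h
      exact mul_left_cancel₀ hk (h.trans (mul_one _).symm))
    have hd : f ∣ g.natDegree := by simpa using hco 0 h0
    ext k
    rw [coeff_expand hf]
    split_ifs with hk
    · rw [coeff_contract hf.ne', Nat.div_mul_cancel hk]
    · by_contra hne
      have hk' : k ≤ g.natDegree := le_natDegree_of_ne_zero (Ne.symm hne)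
      exact hk ((Nat.dvd_sub_iff_right hk' hd).1 (hco k (Ne.symm hne)))
  rcases isEmpty_or_nonempty {t : Tup F n // t.cpro = δ ∧ ∀ i, (t.1 i).scaleRoots ζ = t.1 i} with h | h
  · simp
  have hle : n / f ≤ n := Nat.div_le_self n f
  have hdeg : ∀ t : {t : Tup F n // t.cpro = δ ∧ ∀ i, (t.1 i).scaleRoots ζ = t.1 i}, ∀ i,
      (contract f (t.1.1 i)).natDegree * f = (t.1.1 i).natDegree := fun t i => by
    conv_rhs => rw [← hexp _ (t.1.2.1 i).1 (t.1.2.1 i).2 (t.2.2 i)]
    rw [natDegree_expand]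
  have hhi : ∀ t : {t : Tup F n // t.cpro = δ ∧ ∀ i, (t.1 i).scaleRoots ζ = t.1 i}, ∀ i : Fin n,
      ¬ (i : ℕ) < n / f → t.1.1 i = 1 := fun t i hi => by
    refine ((t.1.2.1 i).1.natDegree_eq_zero).1 (Nat.eq_zero_of_not_pos fun hpos => hi ?_)
    have h1 : (1 + (i : ℕ)) * (t.1.1 i).natDegree ≤ n := by
      conv_rhs => rw [← t.1.2.2]
      exact Finset.single_le_sum (f := fun i : Fin n => (1 + (i : ℕ)) * (t.1.1 i).natDegree)
        (fun _ _ => Nat.zero_le _) (Finset.mem_univ i)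
    have h2 : f ≤ (t.1.1 i).natDegree := Nat.le_of_dvd hpos ⟨_, (hdeg t i).symm.trans (mul_comm _ _)⟩
    have : (1 + (i : ℕ)) * f ≤ n := (Nat.mul_le_mul_left _ h2).trans h1
    have := (Nat.le_div_iff_mul_le hf).2 this
    omega
  let red : {t : Tup F n // t.cpro = δ ∧ ∀ i, (t.1 i).scaleRoots ζ = t.1 i} →
      {t : Tup F (n / f) // t.cpro = δ} := fun t =>
    ⟨⟨fun k => contract f (t.1.1 (Fin.castLE hle k)), fun k => ⟨(monic_expand_iff hf).1 (by
        rw [hexp _ (t.1.2.1 _).1 (t.1.2.1 _).2 (t.2.2 _)]; exact (t.1.2.1 _).1), by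
        rw [coeff_contract hf.ne', zero_mul]; exact (t.1.2.1 _).2⟩, by
      have h : ∑ i : Fin n, (1 + (i : ℕ)) * (t.1.1 i).natDegree =
          ∑ k : Fin (n / f), f * ((1 + (k : ℕ)) * (contract f (t.1.1 (Fin.castLE hle k))).natDegree) :=
        (Fintype.sum_of_injective (Fin.castLE hle) (Fin.castLE_injective hle) _ _
          (fun i hi => by
            rw [hhi t i fun hlt => hi ⟨⟨i, hlt⟩, rfl⟩, natDegree_one, mul_zero])
          (fun k => by
            rw [← hdeg t (Fin.castLE hle k), Fin.val_castLE]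
            ring)).symm
      rw [← Finset.mul_sum, t.1.2.2] at h
      exact (Nat.div_eq_of_eq_mul_right hf h).symm⟩, by
    refine Eq.trans ?_ t.2.1
    refine Fintype.prod_of_injective (Fin.castLE hle) (Fin.castLE_injective hle) _ _
      (fun i hi => by rw [hhi t i fun hlt => hi ⟨⟨i, hlt⟩, rfl⟩]; simp) (fun k => ?_)
    simp only [coeff_contract hf.ne', zero_mul]
    rfl⟩
  have hz : ∀ (t : {t : Tup F n // t.cpro = δ ∧ ∀ i, (t.1 i).scaleRoots ζ = t.1 i}) (i : Fin n), (contract f (t.1.1 i)).natDegree = 0 ↔ (t.1.1 i).natDegree = 0 := fun t i => by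
    rw [← hdeg t i, Nat.mul_eq_zero, or_iff_left hf.ne']
  have hgg : ∀ t, gg (Fintype.card F) (red t).1.deg = gg (Fintype.card F) t.1.deg := fun t => by
    refine congrArg (Nat.gcd _) (dvd_antisymm (Finset.dvd_gcd fun i _ => ?_) (Finset.dvd_gcd fun k _ => ?_))
    · by_cases hi : (i : ℕ) < n / f
      · exact (Finset.gcd_dvd (Finset.mem_univ (⟨i, hi⟩ : Fin (n / f)))).trans (dvd_of_eq (if_congr (hz t i) rfl rfl))
      · rw [if_pos (show t.1.deg i = 0 by simp [Tup.deg, hhi t i hi])]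
        exact dvd_zero _
    · exact (Finset.gcd_dvd (Finset.mem_univ (Fin.castLE hle k))).trans
        (dvd_of_eq (if_congr (hz t _).symm rfl rfl))
  refine Nat.card_le_card_of_injective (Sigma.map red fun t => Fin.cast (hgg t).symm)
    ((Function.Injective.sigma_map ?_ fun t => Fin.cast_injective _))
  intro t t' h
  refine Subtype.ext (Subtype.ext (funext fun i => ?_))
  by_cases hi : (i : ℕ) < n / f
  · rw [← hexp _ (t.1.2.1 i).1 (t.1.2.1 i).2 (t.2.2 i), ← hexp _ (t'.1.2.1 i).1 (t'.1.2.1 i).2 (t'.2.2 i)]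
    exact congrArg _ (congrFun (congrArg Subtype.val (congrArg Subtype.val h)) ⟨i, hi⟩)
  · rw [hhi t i hi, hhi t' i hi]

end CfsgLib.ClassNumber
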